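import Groth.Agent.Vancyc.H679.GoodSing
import Groth.Agent.S3095

/-!
# The cohomological part of the Picard–Lefschetz formula, from the local statements
-/

set_option autoImplicit false
universe u
open CategoryTheory CategoryTheory.Limits CategoryTheory.Abelian AlgebraicGeometry Opposite

namespace Groth.Agent.Vancyc.H679.PicLef

open Groth.Agent Groth.Agent.Vancyc.H679.PropLES Groth.Agent.Vancyc.H679.GoodSing

/-- Proper base change for the closed fibre over a henselian local ring. -/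
theorem pbc (A : Type u) [CommRing A] [HenselianLocalRing A] {X : Scheme.{u}}
    (f : X ⟶ Spec (CommRingCat.of A)) [IsProper f] [PreservesFiniteLimits (EtCoh.pull (VanCyc.icl A f))] :
    PBCi (VanCyc.icl A f) := fun P hP q => S3095.result A X f P hP q

/-- The conclusions of `S3996` and `S3997`, from the local statements `S3993`, `S3994`, `S3995`. -/
theorem main (R K Ω : Type u) [CommRing R] [IsDomain R] [IsDiscreteValuationRing R]
    (hR : EtCoh.IsStrictlyHenselianLocalRing R) [Field K] [Algebra R K] [Field Ω] [Algebra R Ω]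
    {X : Scheme.{u}} (f : X ⟶ Spec (CommRingCat.of R)) [IsProper f] [Flat f] (n : ℕ)
    (hη : SmoothOfRelativeDimension n (VanCyc.fibStr R f K))
    (Sing : Finset ↥(VanCyc.spFib R f)) (hSc : ∀ x ∈ Sing, IsClosed ({x} : Set ↥(VanCyc.spFib R f)))
    (hSq : ∀ x ∈ Sing, VanCyc.IsOrdQuadPt (VanCyc.resHom (VanCyc.spStr R f) x) n)
    (U : (VanCyc.spFib R f).Opens) (hU : ∀ x : ↥(VanCyc.spFib R f), x ∉ Sing → x ∈ U)
    (hUs : SmoothOfRelativeDimension n (U.ι ≫ VanCyc.spStr R f))
    (N : ℕ) (hN : IsUnit (N : R)) [PreservesFiniteLimits (EtCoh.pull (VanCyc.jA R f Ω))]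
    (h1 : InSmooth R Ω f (EtCoh.const X (ZMod N))) (h2 : 1 ≤ n → InQuad R K Ω f n N)
    (h3 : n = 0 → InQuad0 R K Ω f N) :
    (∀ m : ℕ, m ≠ n + 1 → Function.Injective (EtCore.Hpull (VanCyc.jA R f Ω) (EtCoh.const X (ZMod N)) m)) ∧
    (∀ m : ℕ, m ≠ n → Function.Surjective (EtCore.Hpull (VanCyc.jA R f Ω) (EtCoh.const X (ZMod N)) m)) ∧
      ∃ (φ : EtCoh.H (VanCyc.fib R f Ω) ((EtCoh.pull (VanCyc.jA R f Ω)).obj (EtCoh.const X (ZMod N))) n →+
          (↥Sing → ZMod N))
        (ψ : (↥Sing → ZMod N) →+ EtCoh.H X (EtCoh.const X (ZMod N)) (n + 1)),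
        φ.ker = (EtCore.Hpull (VanCyc.jA R f Ω) (EtCoh.const X (ZMod N)) n).range ∧
          ψ.ker = φ.range ∧
          (EtCore.Hpull (VanCyc.jA R f Ω) (EtCoh.const X (ZMod N)) (n + 1)).ker = ψ.range := by
  obtain ⟨hH, hS⟩ := hR
  have i1 : PreservesFiniteLimits (EtCoh.pull (VanCyc.icl R f)) := S0101.result _
  have hN' : 0 < N := Nat.pos_of_ne_zero (by rintro rfl; simp at hN)
  exact picLef R K Ω f n (pbc R f) hη Sing hSc hSq U hU hUs N hN' h1 h2 h3

end Groth.Agent.Vancyc.H679.PicLef
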