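import Groth.Agent.CurvesA.Punctual
import Groth.Agent.Etbase.EtSite
import Groth.Prelude.Def_EtCore

/-!
# Global sections of a sheaf with finite support at closed points with separably closed residue fields

`bijective_germs`: global sections are the product of the stalks at the points of the support;
`nonempty_H0_equiv`: the same for `H^0`.
-/

set_option autoImplicit false
universe u
open CategoryTheory CategoryTheory.Limits AlgebraicGeometry Opposite

namespace Groth.Agent.Vancyc.H679.PunctPi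

open Groth.Agent.CurvesA.SkyPoint Groth.Agent.CurvesA.SkyAcyclic Groth.Agent.CurvesA.Punctual
  Groth.Agent.EtpbcA.Artin Groth.Agent.CurvesA Groth.Agent

variable {X : Scheme.{u}}

/-- The tautological point of the fibre of the final object. -/
noncomputable def topPt {Ω : Type u} [Field Ω] [IsSepClosed Ω] (ξ : Spec (CommRingCat.of Ω) ⟶ X) :
    (Scheme.pointSmallEtale ξ).fiber.obj (EtCoh.top X) :=
  Etcore.StalkSec.mkLift ξ (U := EtCoh.top X) ξ (Category.comp_id _)

theorem pt_topPt {Ω : Type u} [Field Ω] [IsSepClosed Ω] (ξ : Spec (CommRingCat.of Ω) ⟶ X) :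
    Etcore.StalkSec.pt ξ (topPt ξ) = ξ default := rfl

/-- The germ of a global section. -/
noncomputable def gtop {Ω : Type u} [Field Ω] [IsSepClosed Ω] (ξ : Spec (CommRingCat.of Ω) ⟶ X)
    (F : EtCoh.Ab X) : EtCoh.sect F (EtCoh.top X) →+ ((EtCoh.stalk ξ).obj F : Type (u + 1)) :=
  (Etcore.StalkSec.germ ξ F (EtCoh.top X) (topPt ξ)).hom

theorem gtop_apply {Ω : Type u} [Field Ω] [IsSepClosed Ω] (ξ : Spec (CommRingCat.of Ω) ⟶ X)
    (F : EtCoh.Ab X) (s : EtCoh.sect F (EtCoh.top X)) :
    gtop ξ F s = Etcore.StalkSec.germ ξ F (EtCoh.top X) (topPt ξ) s := rfl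

theorem gtop_map {Ω : Type u} [Field Ω] [IsSepClosed Ω] (ξ : Spec (CommRingCat.of Ω) ⟶ X)
    {F G : EtCoh.Ab X} (a : F ⟶ G) (s : EtCoh.sect F (EtCoh.top X)) :
    (EtCoh.stalk ξ).map a (gtop ξ F s) = gtop ξ G (a.hom.app (op (EtCoh.top X)) s) :=
  Etcore.Stalks.germ_map ξ a (topPt ξ) s

/-- Germs at the points of a set containing the support detect global sections. -/
theorem injective_germs (T : Set X) (F : EtCoh.Ab X) (hF : EtPBC.supp F ⊆ T)
    (Ω : X → Type u) [∀ x, Field (Ω x)] [∀ x, IsSepClosed (Ω x)]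
    (ξ : ∀ x : X, Spec (CommRingCat.of (Ω x)) ⟶ X) (hξ : ∀ x, ξ x default = x)
    (s : EtCoh.sect F (EtCoh.top X)) (hs : ∀ x ∈ T, gtop (ξ x) F s = 0) : s = 0 := by
  refine Etbase.EtSite.sect_ext F (EtCoh.top X) s 0 fun x => ?_
  by_cases hx : (x : X) ∈ T
  · have h1 := hs x hx
    rw [gtop_apply, Etcore.StalkSec.germ_eq_zero_iff] at h1
    obtain ⟨V, f, v, hv, h2⟩ := h1
    refine ⟨V, f, v, ?_, ?_⟩
    · rw [hv, pt_topPt, hξ]
    · rw [h2, map_zero]
  · have h1 := (not_mem_supp_iff F (x : X)).1 (fun h => hx (hF h))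
    obtain ⟨V, g, ⟨w, hw⟩, h2⟩ := h1 (EtCoh.top X) s x rfl
    exact ⟨V, g, w, hw, by rw [h2, map_zero]⟩

theorem gtop_unit {Ω : Type u} [Field Ω] [IsSepClosed Ω] (ξ : Spec (CommRingCat.of Ω) ⟶ X)
    (F : EtCoh.Ab X) (s : EtCoh.sect F (EtCoh.top X)) :
    gtop ξ F s = comp ξ ((EtCoh.stalk ξ).obj F) (topPt ξ)
      (((skyAdj ξ).unit.app F).hom.app (op (EtCoh.top X)) s) := by
  have htri : (EtCoh.stalk ξ).map ((skyAdj ξ).unit.app F) ≫
      (skyAdj ξ).counit.app ((EtCoh.stalk ξ).obj F) = 𝟙 _ := (skyAdj ξ).left_triangle_components F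
  rw [← counit_germ]
  have h1 := gtop_map ξ ((skyAdj ξ).unit.app F) s
  refine (ConcreteCategory.congr_hom htri (gtop ξ F s)).symm.trans ?_
  exact congrArg ((skyAdj ξ).counit.app ((EtCoh.stalk ξ).obj F)) h1

/-- Global sections of a sheaf with finite support at closed points with separably closed residue fields
surject onto the product of the stalks. -/
theorem surjective_germs (T : Finset X) (hT : ∀ x ∈ T, IsClosed ({x} : Set X))
    (hT' : ∀ x ∈ T, IsSepClosed (X.residueField x)) (F : EtCoh.Ab X) (hF : EtPBC.supp F ⊆ T)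
    (Ω : X → Type u) [∀ x, Field (Ω x)] [∀ x, IsSepClosed (Ω x)]
    (ξ : ∀ x : X, Spec (CommRingCat.of (Ω x)) ⟶ X) (hξ : ∀ x, ξ x default = x)
    (p : ∀ x : X, ((EtCoh.stalk (ξ x)).obj F : Type (u + 1))) :
    ∃ s : EtCoh.sect F (EtCoh.top X), ∀ x ∈ T, gtop (ξ x) F s = p x := by
  classical
  induction T using Finset.induction_on generalizing F with
  | empty => exact ⟨0, fun x hx => by simp at hx⟩
  | insert x T hxT ih =>
    have hcl : IsClosed ({ξ x default} : Set X) := by
      rw [hξ]; exact hT x (Finset.mem_insert_self x T)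
    have hsc : IsSepClosed (X.residueField (ξ x default)) := by
      rw [hξ]; exact hT' x (Finset.mem_insert_self x T)
    let η : F ⟶ (sky (ξ x)).obj ((EtCoh.stalk (ξ x)).obj F) := (skyAdj (ξ x)).unit.app F
    have htri : (EtCoh.stalk (ξ x)).map η ≫ (skyAdj (ξ x)).counit.app ((EtCoh.stalk (ξ x)).obj F) = 𝟙 _ :=
      (skyAdj (ξ x)).left_triangle_components F
    have hinj := counit_injective (ξ x) hcl hsc ((EtCoh.stalk (ξ x)).obj F)
    have hepi : Epi η := Etcore.Stalks.epi_of_stalks η fun y => by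
      by_cases hy : y = x
      · subst hy
        refine ⟨Ω y, inferInstance, inferInstance, ξ y, hξ y, fun q => ?_⟩
        refine ⟨(skyAdj (ξ y)).counit.app _ q, ?_⟩
        apply hinj
        exact ConcreteCategory.congr_hom htri ((skyAdj (ξ y)).counit.app _ q)
      · obtain ⟨Ω', _, _, ζ, hζ⟩ := Etcore.Stalks.exists_geom y
        refine ⟨Ω', inferInstance, inferInstance, ζ, hζ, fun q => ⟨0, ?_⟩⟩
        have hz := isZero_stalk_sky (ξ x) hcl ζ (by rw [hζ, hξ]; exact hy) ((EtCoh.stalk (ξ x)).obj F)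
        have := AddCommGrpCat.subsingleton_of_isZero hz
        exact Subsingleton.elim _ _
    let S : ShortComplex (EtCoh.Ab X) := ShortComplex.mk (kernel.ι η) η (kernel.condition η)
    have hS : S.ShortExact := { exact := ShortComplex.exact_kernel η }
    have hN : EtPBC.supp (kernel η) ⊆ T := by
      intro y hy
      by_cases hyx : y = x
      · exfalso
        subst hyx
        refine (mem_supp_iff _ y (ξ y) ((range_eq_iff (ξ y) y).2 (hξ y))).1 hy ?_
        have h0 : (EtCoh.stalk (ξ y)).map (kernel.ι η) = 0 := by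
          have h1 : (EtCoh.stalk (ξ y)).map (kernel.ι η) ≫ (EtCoh.stalk (ξ y)).map η = 0 := by
            rw [← Functor.map_comp, kernel.condition, Functor.map_zero]
          have h2 : (EtCoh.stalk (ξ y)).map (kernel.ι η) ≫ ((EtCoh.stalk (ξ y)).map η ≫
            (skyAdj (ξ y)).counit.app ((EtCoh.stalk (ξ y)).obj F)) = 0 := by
            rw [← Category.assoc, h1, zero_comp]
          rw [htri] at h2
          exact (Category.comp_id _).symm.trans h2
        exact IsZero.of_mono_eq_zero _ h0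
      · have h1 : y ∈ EtPBC.supp F := by
          by_contra hyF
          refine (not_mem_supp_iff _ y).2 ?_ hy
          rw [← hξ y, ← stalk_isZero_iff]
          exact IsZero.of_mono ((EtCoh.stalk (ξ y)).map (kernel.ι η))
            (isZero_stalk_of_not_mem hyF (ξ y) (hξ y))
        have h2 := hF h1
        simp only [Finset.coe_insert, Set.mem_insert_iff] at h2
        exact h2.resolve_left hyx
    have hTc := fun y (hy : y ∈ T) => hT y (Finset.mem_insert_of_mem hy)
    have hTs := fun y (hy : y ∈ T) => hT' y (Finset.mem_insert_of_mem hy)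
    obtain ⟨s₁, hs₁⟩ := CohBasic.surj_of_van hS (van_of_finite_supp T hTc hTs (kernel η) hN 1 one_pos)
      (mkSec (ξ x) ((EtCoh.stalk (ξ x)).obj F) (EtCoh.top X) fun _ => p x)
    have hg₁ : gtop (ξ x) F s₁ = p x := by
      rw [gtop_unit]
      exact (congrArg (comp (ξ x) _ (topPt (ξ x))) hs₁).trans (comp_mkSec (ξ x) _ _ _ _)
    -- the stalks of the kernel away from `x`
    have hk : ∀ y : X, y ≠ x → IsIso ((EtCoh.stalk (ξ y)).map (kernel.ι η)) := by
      intro y hy
      have hz := isZero_stalk_sky (ξ x) hcl (ξ y) (by rw [hξ, hξ]; exact hy) ((EtCoh.stalk (ξ x)).obj F)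
      have hS' := hS.exact.map (EtCoh.stalk (ξ y))
      have h1 : Epi ((EtCoh.stalk (ξ y)).map (kernel.ι η)) := hS'.epi_f (hz.eq_of_tgt _ _)
      exact isIso_of_mono_of_epi _
    have hq : ∀ y : X, ∃ q : ((EtCoh.stalk (ξ y)).obj (kernel η) : Type (u + 1)),
        y ≠ x → (EtCoh.stalk (ξ y)).map (kernel.ι η) q = p y - gtop (ξ y) F s₁ := by
      intro y
      by_cases hy : y = x
      · exact ⟨0, fun h => absurd hy h⟩
      · have := hk y hy
        exact ⟨inv ((EtCoh.stalk (ξ y)).map (kernel.ι η)) (p y - gtop (ξ y) F s₁), fun _ => by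
          rw [← ConcreteCategory.comp_apply, IsIso.inv_hom_id, ConcreteCategory.id_apply]⟩
    choose q hq using hq
    obtain ⟨t, ht⟩ := ih hTc hTs (kernel η) hN q
    refine ⟨s₁ + (kernel.ι η).hom.app (op (EtCoh.top X)) t, fun y hy => ?_⟩
    rw [map_add, ← gtop_map]
    rcases eq_or_ne y x with rfl | hyx
    · rw [hg₁]
      have h2 : (EtCoh.stalk (ξ y)).map (kernel.ι η) (gtop (ξ y) (kernel η) t) = 0 := by
        have h3 : (EtCoh.stalk (ξ y)).map η ((EtCoh.stalk (ξ y)).map (kernel.ι η) (gtop (ξ y) (kernel η) t)) = 0 := by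
          rw [← ConcreteCategory.comp_apply, ← Functor.map_comp, kernel.condition, Functor.map_zero]
          rfl
        refine (ConcreteCategory.congr_hom htri
          ((EtCoh.stalk (ξ y)).map (kernel.ι η) (gtop (ξ y) (kernel η) t))).symm.trans ?_
        exact (congrArg ((skyAdj (ξ y)).counit.app ((EtCoh.stalk (ξ y)).obj F)) h3).trans (map_zero _)
      rw [h2, add_zero]
    · rw [ht y ((Finset.mem_insert.1 hy).resolve_left hyx), hq y hyx, add_sub_cancel]

/-- `H^0` of a sheaf with finite support at closed points with separably closed residue fields. -/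
theorem nonempty_H0_equiv (T : Finset X) (hT : ∀ x ∈ T, IsClosed ({x} : Set X))
    (hT' : ∀ x ∈ T, IsSepClosed (X.residueField x)) (F : EtCoh.Ab X) (hF : EtPBC.supp F ⊆ T)
    (Ω : X → Type u) [∀ x, Field (Ω x)] [∀ x, IsSepClosed (Ω x)]
    (ξ : ∀ x : X, Spec (CommRingCat.of (Ω x)) ⟶ X) (hξ : ∀ x, ξ x default = x) :
    Nonempty (EtCoh.H X F 0 ≃+ ∀ x : T, ((EtCoh.stalk (ξ x)).obj F : Type (u + 1))) := by
  classical
  let Φ : EtCoh.sect F (EtCoh.top X) →+ ∀ x : T, ((EtCoh.stalk (ξ x)).obj F : Type (u + 1)) :=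
    AddMonoidHom.pi fun x : T => gtop (ξ x.1) F
  have hb : Function.Bijective Φ := by
    constructor
    · rw [injective_iff_map_eq_zero]
      intro s hs
      exact injective_germs T F hF Ω ξ hξ s fun x hx => congrFun hs ⟨x, hx⟩
    · intro p
      obtain ⟨s, hs⟩ := surjective_germs T hT hT' F hF Ω ξ hξ
        (fun x => if hx : x ∈ T then p ⟨x, hx⟩ else 0)
      refine ⟨s, funext fun x => (hs x.1 x.2).trans ?_⟩
      exact dif_pos x.2
  exact ⟨(Sheaf.H.equiv₀ F (EtCore.topIsTerminal X)).trans (AddEquiv.ofBijective Φ hb)⟩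

end Groth.Agent.Vancyc.H679.PunctPi
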