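import Groth.Agent.Vancyc.H679.EtLES
import Groth.Agent.Vancyc.H679.PunctPi
import Groth.Agent.EtpbcB.NKillEt
import Groth.Agent.EtpbcB.TorsEt
import Groth.Agent.EtpbcA.SubSheaf
import Groth.Agent.Etrest.Punctual186

/-!
# The long exact sequence of vanishing cycles over a base where cohomology is that of the closed fibre
-/

set_option autoImplicit false
universe u
open CategoryTheory CategoryTheory.Limits CategoryTheory.Abelian AlgebraicGeometry Opposite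

namespace Groth.Agent.Vancyc.H679.PropLES

open Groth.Agent Groth.Agent.CurvesA.Punctual

/-- Proper base change for `i : T₀ ⟶ T`: restriction is bijective on cohomology of torsion sheaves. -/
def PBCi {T₀ T : Scheme.{u}} (i : T₀ ⟶ T) [PreservesFiniteLimits (EtCoh.pull i)] : Prop :=
  ∀ P : EtCoh.Ab T, EtCoh.IsTorsion P → ∀ q : ℕ, Function.Bijective (EtCore.Hpull i P q)

section Punct

variable {T₀ T : Scheme.{u}} (i : T₀ ⟶ T) [PreservesFiniteLimits (EtCoh.pull i)] (hi : PBCi i)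
  (Sig : Finset T₀) (hc : ∀ x ∈ Sig, IsClosed ({x} : Set T₀)) (hs : ∀ x ∈ Sig, IsSepClosed (T₀.residueField x))
  (P : EtCoh.Ab T) (hP : EtCoh.IsTorsion P)
  (h0 : ∀ x : T₀, x ∉ Sig → ∃ (Ω : Type u) (_ : Field Ω) (_ : IsSepClosed Ω)
      (ξ : Spec (CommRingCat.of Ω) ⟶ T₀), ξ default = x ∧ IsZero ((EtCoh.stalk ξ).obj ((EtCoh.pull i).obj P)))

include hi hc hs hP h0

theorem subsingleton_H (j : ℕ) (hj : 1 ≤ j) : Subsingleton (EtCoh.H T P j) := by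
  have h1 := Etrest.Punctual186.supp_subset ((EtCoh.pull i).obj P) (Sig : Set T₀) h0
  have h2 := van_of_finite_supp Sig hc hs ((EtCoh.pull i).obj P) h1 j hj
  exact (hi P hP j).injective.subsingleton

theorem nonempty_equiv (Ω : T₀ → Type u) [∀ x, Field (Ω x)] [∀ x, IsSepClosed (Ω x)]
    (ξ : ∀ x : T₀, Spec (CommRingCat.of (Ω x)) ⟶ T₀) (hξ : ∀ x, ξ x default = x) :
    Nonempty (EtCoh.H T P 0 ≃+ ∀ x : Sig, ((EtCoh.stalk (ξ x)).obj ((EtCoh.pull i).obj P) : Type (u + 1))) := by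
  have h1 := Etrest.Punctual186.supp_subset ((EtCoh.pull i).obj P) (Sig : Set T₀) h0
  obtain ⟨e⟩ := PunctPi.nonempty_H0_equiv Sig hc hs ((EtCoh.pull i).obj P) h1 Ω ξ hξ
  exact ⟨(AddEquiv.ofBijective _ (hi P hP 0)).trans e⟩

end Punct

theorem subsingleton_H_zero {T₀ T : Scheme.{u}} (i : T₀ ⟶ T) [PreservesFiniteLimits (EtCoh.pull i)] (hi : PBCi i)
    (P : EtCoh.Ab T) (hP : EtCoh.IsTorsion P)
    (h0 : ∀ x : T₀, ∃ (Ω : Type u) (_ : Field Ω) (_ : IsSepClosed Ω)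
      (ξ : Spec (CommRingCat.of Ω) ⟶ T₀), ξ default = x ∧ IsZero ((EtCoh.stalk ξ).obj ((EtCoh.pull i).obj P)))
    (j : ℕ) : Subsingleton (EtCoh.H T P j) := by
  rcases Nat.eq_zero_or_pos j with rfl | hj
  · choose Ω i1 i2 ξ hξ hz using h0
    obtain ⟨e⟩ := nonempty_equiv i hi ∅ (by simp) (by simp) P hP
      (fun x _ => ⟨Ω x, i1 x, i2 x, ξ x, hξ x, hz x⟩) Ω ξ hξ
    exact e.injective.subsingleton
  · exact subsingleton_H i hi ∅ (by simp) (by simp) P hP (fun x _ => h0 x) j hj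

section Killed

open EtpbcB.NKillEt EtpbcB.NKill

theorem isTorsion_killed {T : Scheme.{u}} {N : ℕ} (hN : 0 < N) {F : EtCoh.Ab T} (h : EtCoh.KilledBy N F) :
    EtCoh.IsTorsion F := EtpbcB.TorsEt.isTorsion_of_killedBy hN F h

theorem killed_Rpush {X Y : Scheme.{u}} (g : X ⟶ Y) {N : ℕ} {F : EtCoh.Ab X} (h : EtCoh.KilledBy N F) (q : ℕ) :
    EtCoh.KilledBy N ((EtCoh.Rpush g q).obj F) :=
  (killedBy_iff N _).2 (killed_map (EtCoh.Rpush g q) ((killedBy_iff N F).1 h))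

end Killed

section Exact

variable {C D : Type*} [Category* C] [Category* D] [Abelian C] [Abelian D] (Φ : C ⥤ D)
  [Φ.PreservesZeroMorphisms] {A B : C} (u : A ⟶ B)

theorem isZero_map_kernel [PreservesFiniteLimits Φ] (h : Mono (Φ.map u)) : IsZero (Φ.obj (kernel u)) :=
  IsZero.of_iso (isZero_kernel_of_mono (Φ.map u)) (PreservesKernel.iso Φ u)

theorem isZero_map_cokernel [PreservesFiniteColimits Φ] (h : Epi (Φ.map u)) : IsZero (Φ.obj (cokernel u)) :=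
  IsZero.of_iso (isZero_cokernel_of_epi (Φ.map u)) (PreservesCokernel.iso Φ u)

end Exact

section Main

variable {T₀ T W : Scheme.{u}} (i : T₀ ⟶ T) [PreservesFiniteLimits (EtCoh.pull i)] (hi : PBCi i)
  (Sig : Finset T₀) (hc : ∀ x ∈ Sig, IsClosed ({x} : Set T₀)) (hs : ∀ x ∈ Sig, IsSepClosed (T₀.residueField x))
  (g : W ⟶ T) [PreservesFiniteLimits (EtCoh.pull g)] {N : ℕ} (hN : 0 < N) (F : EtCoh.Ab T)
  (hF : EtCoh.KilledBy N F)

/-- The unit, restricted to `T₀`, at a geometric point. -/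
noncomputable abbrev uMap {Ω : Type u} [Field Ω] [IsSepClosed Ω] (ξ : Spec (CommRingCat.of Ω) ⟶ T₀) :=
  (EtCoh.stalk ξ).map ((EtCoh.pull i).map ((EtCoh.pullPushAdj g).unit.app F))

/-- The stalks of the higher direct images, restricted to `T₀`. -/
noncomputable abbrev rObj (q : ℕ) {Ω : Type u} [Field Ω] [IsSepClosed Ω] (ξ : Spec (CommRingCat.of Ω) ⟶ T₀) :=
  (EtCoh.stalk ξ).obj ((EtCoh.pull i).obj ((EtCoh.Rpush g q).obj ((EtCoh.pull g).obj F)))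

/-- No vanishing cycles at `x`. -/
def Good (x : T₀) : Prop := ∀ (Ω : Type u) [Field Ω] [IsSepClosed Ω] (ξ : Spec (CommRingCat.of Ω) ⟶ T₀),
  ξ default = x → IsIso (uMap i g F ξ) ∧ ∀ q : ℕ, 1 ≤ q → IsZero (rObj i g F q ξ)

/-- Vanishing cycles at `x` concentrated in degree `n`, where they are `M`. -/
def Sing (n : ℕ) (M : AddCommGrpCat.{u + 1}) (x : T₀) : Prop :=
  ∀ (Ω : Type u) [Field Ω] [IsSepClosed Ω] (ξ : Spec (CommRingCat.of Ω) ⟶ T₀), ξ default = x →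
    Mono (uMap i g F ξ) ∧ (n ≠ 0 → Epi (uMap i g F ξ)) ∧
      (∀ q : ℕ, 1 ≤ q → q ≠ n → IsZero (rObj i g F q ξ)) ∧
      (n = 0 → Nonempty (cokernel (uMap i g F ξ) ≅ M)) ∧ (n ≠ 0 → Nonempty (rObj i g F n ξ ≅ M))

include hi hc hs hN hF in
theorem main (n : ℕ) (M : AddCommGrpCat.{u + 1}) (h1 : ∀ x : T₀, x ∉ Sig → Good i g F x)
    (h2 : ∀ x ∈ Sig, Sing i g F n M x) :
    (∀ m : ℕ, m ≠ n + 1 → Function.Injective (EtCore.Hpull g F m)) ∧
    (∀ m : ℕ, m ≠ n → Function.Surjective (EtCore.Hpull g F m)) ∧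
    ∃ (φ : EtCoh.H W ((EtCoh.pull g).obj F) n →+ (Sig → (M : Type (u + 1))))
      (ψ : (Sig → (M : Type (u + 1))) →+ EtCoh.H T F (n + 1)),
      φ.ker = (EtCore.Hpull g F n).range ∧ ψ.ker = φ.range ∧ (EtCore.Hpull g F (n + 1)).ker = ψ.range := by
  have hgeo : ∀ x : T₀, ∃ (Ω : Type u) (_ : Field Ω) (_ : IsSepClosed Ω)
      (ξ : Spec (CommRingCat.of Ω) ⟶ T₀), ξ default = x := fun x => Etcore.Stalks.exists_geom x
  choose Ω i1 i2 ξ hξ using hgeo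
  set u := (EtCoh.pullPushAdj g).unit.app F with hu
  have hG : EtCoh.KilledBy N ((EtCoh.pull g).obj F) := EtpbcB.NKillEt.killedBy_pull g hF
  have hP : EtCoh.KilledBy N ((EtCoh.push g).obj ((EtCoh.pull g).obj F)) := EtpbcB.NKillEt.killedBy_push g hG
  have hK : EtCoh.IsTorsion (kernel u) := isTorsion_killed hN (EtpbcA.SubSheaf.killedBy_of_mono (kernel.ι u) hF)
  have hC : EtCoh.IsTorsion (cokernel u) := isTorsion_killed hN (EtpbcA.SubSheaf.killedBy_of_epi (cokernel.π u) hP)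
  have hR : ∀ q : ℕ, EtCoh.IsTorsion ((EtCoh.Rpush g q).obj ((EtCoh.pull g).obj F)) := fun q =>
    isTorsion_killed hN (killed_Rpush g hG q)
  have hmono : ∀ x : T₀, Mono (uMap i g F (ξ x)) := fun x => by
    by_cases hx : x ∈ Sig
    · exact (h2 x hx (Ω x) (ξ x) (hξ x)).1
    · have := (h1 x hx (Ω x) (ξ x) (hξ x)).1
      infer_instance
  have zK : ∀ x : T₀, IsZero ((EtCoh.stalk (ξ x)).obj ((EtCoh.pull i).obj (kernel u))) := fun x =>
    isZero_map_kernel (EtCoh.pull i ⋙ EtCoh.stalk (ξ x)) u (hmono x)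
  have zC : ∀ x : T₀, (x ∉ Sig ∨ n ≠ 0) →
      IsZero ((EtCoh.stalk (ξ x)).obj ((EtCoh.pull i).obj (cokernel u))) := fun x hx => by
    refine isZero_map_cokernel (EtCoh.pull i ⋙ EtCoh.stalk (ξ x)) u ?_
    change Epi (uMap i g F (ξ x))
    by_cases hxs : x ∈ Sig
    · exact (h2 x hxs (Ω x) (ξ x) (hξ x)).2.1 (hx.resolve_left (not_not.2 hxs))
    · have := (h1 x hxs (Ω x) (ξ x) (hξ x)).1
      infer_instance
  have zR : ∀ (q : ℕ) (x : T₀), 1 ≤ q → (x ∉ Sig ∨ q ≠ n) → IsZero (rObj i g F q (ξ x)) := fun q x hq hx => by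
    by_cases hxs : x ∈ Sig
    · exact (h2 x hxs (Ω x) (ξ x) (hξ x)).2.2.1 q hq (hx.resolve_left (not_not.2 hxs))
    · exact (h1 x hxs (Ω x) (ξ x) (hξ x)).2 q hq
  have aK : ∀ j : ℕ, Subsingleton (EtCoh.H T (kernel u) j) := fun j =>
    subsingleton_H_zero i hi _ hK (fun x => ⟨Ω x, i1 x, i2 x, ξ x, hξ x, zK x⟩) j
  have aC : ∀ j : ℕ, (0 ≠ n ∨ j ≠ 0) → Subsingleton (EtCoh.H T (cokernel u) j) := fun j hj => by
    by_cases hn : n = 0
    · exact subsingleton_H i hi Sig hc hs _ hC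
        (fun x hx => ⟨Ω x, i1 x, i2 x, ξ x, hξ x, zC x (Or.inl hx)⟩) j
        (Nat.one_le_iff_ne_zero.2 (hj.resolve_left (not_not.2 hn.symm)))
    · exact subsingleton_H_zero i hi _ hC (fun x => ⟨Ω x, i1 x, i2 x, ξ x, hξ x, zC x (Or.inr hn)⟩) j
  have aR : ∀ q : ℕ, 1 ≤ q → ∀ j : ℕ, (q ≠ n ∨ j ≠ 0) →
      Subsingleton (EtCoh.H T ((EtCoh.Rpush g q).obj ((EtCoh.pull g).obj F)) j) := fun q hq j hj => by
    by_cases hn : q = n
    · exact subsingleton_H i hi Sig hc hs _ (hR q)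
        (fun x hx => ⟨Ω x, i1 x, i2 x, ξ x, hξ x, zR q x hq (Or.inl hx)⟩) j
        (Nat.one_le_iff_ne_zero.2 (hj.resolve_left (not_not.2 hn)))
    · exact subsingleton_H_zero i hi _ (hR q) (fun x => ⟨Ω x, i1 x, i2 x, ξ x, hξ x, zR q x hq (Or.inr hn)⟩) j
  obtain ⟨b1, b2, V, hV0, hV1, φ, ψ, b3, b4, b5⟩ := EtLES.main g F n aK aC aR
  -- the sheaf `V` of vanishing cycles
  have hVt : EtCoh.IsTorsion V := by
    by_cases hn : n = 0
    · obtain ⟨e⟩ := hV0 hn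
      exact isTorsion_killed hN (EtpbcA.SubSheaf.killedBy_of_mono e.hom
        (EtpbcA.SubSheaf.killedBy_of_epi (cokernel.π u) hP))
    · obtain ⟨e⟩ := hV1 (Nat.one_le_iff_ne_zero.2 hn)
      exact isTorsion_killed hN (EtpbcA.SubSheaf.killedBy_of_mono e.hom (killed_Rpush g hG n))
  have hVz : ∀ x : T₀, x ∉ Sig → IsZero ((EtCoh.stalk (ξ x)).obj ((EtCoh.pull i).obj V)) := fun x hx => by
    by_cases hn : n = 0
    · obtain ⟨e⟩ := hV0 hn
      exact (zC x (Or.inl hx)).of_iso ((EtCoh.pull i ⋙ EtCoh.stalk (ξ x)).mapIso e)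
    · obtain ⟨e⟩ := hV1 (Nat.one_le_iff_ne_zero.2 hn)
      exact (zR n x (Nat.one_le_iff_ne_zero.2 hn) (Or.inl hx)).of_iso ((EtCoh.pull i ⋙ EtCoh.stalk (ξ x)).mapIso e)
  have hVs : ∀ x : Sig, Nonempty ((EtCoh.stalk (ξ x)).obj ((EtCoh.pull i).obj V) ≅ M) := fun x => by
    obtain ⟨-, -, -, c0, c1⟩ := h2 x.1 x.2 (Ω x) (ξ x) (hξ x)
    by_cases hn : n = 0
    · obtain ⟨e⟩ := hV0 hn
      obtain ⟨e'⟩ := c0 hn
      exact ⟨(EtCoh.pull i ⋙ EtCoh.stalk (ξ x)).mapIso e ≪≫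
        PreservesCokernel.iso (EtCoh.pull i ⋙ EtCoh.stalk (ξ x)) u ≪≫ e'⟩
    · obtain ⟨e⟩ := hV1 (Nat.one_le_iff_ne_zero.2 hn)
      obtain ⟨e'⟩ := c1 hn
      exact ⟨(EtCoh.pull i ⋙ EtCoh.stalk (ξ x)).mapIso e ≪≫ e'⟩
  let eV := fun x => (hVs x).some
  obtain ⟨E₀⟩ := nonempty_equiv i hi Sig hc hs V hVt
    (fun x hx => ⟨Ω x, i1 x, i2 x, ξ x, hξ x, hVz x hx⟩) Ω ξ hξ
  let E : EtCoh.H T V 0 ≃+ (Sig → (M : Type (u + 1))) :=
    E₀.trans (AddEquiv.piCongrRight fun x => (eV x).addCommGroupIsoToAddEquiv)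
  refine ⟨b1, b2, E.toAddMonoidHom.comp φ, ψ.comp E.symm.toAddMonoidHom, ?_, ?_, ?_⟩
  · ext x
    have h5 := SetLike.ext_iff.1 b3 x
    simp only [AddMonoidHom.mem_ker, AddMonoidHom.mem_range, AddMonoidHom.comp_apply] at h5 ⊢
    exact Iff.trans (AddEquiv.map_eq_zero_iff E) h5
  · ext x
    have h5 := SetLike.ext_iff.1 b4 (E.symm x)
    simp only [AddMonoidHom.mem_ker, AddMonoidHom.mem_range, AddMonoidHom.comp_apply] at h5 ⊢
    refine h5.trans ⟨?_, ?_⟩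
    · rintro ⟨y, hy⟩
      exact ⟨y, (congrArg E hy).trans (E.apply_symm_apply x)⟩
    · rintro ⟨y, hy⟩
      exact ⟨y, (E.symm_apply_apply _).symm.trans (congrArg E.symm hy)⟩
  · ext x
    have h5 := SetLike.ext_iff.1 b5 x
    simp only [AddMonoidHom.mem_ker, AddMonoidHom.mem_range, AddMonoidHom.comp_apply] at h5 ⊢
    refine h5.trans ⟨?_, ?_⟩
    · rintro ⟨y, hy⟩
      exact ⟨E y, (congrArg ψ (E.symm_apply_apply y)).trans hy⟩
    · rintro ⟨y, hy⟩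
      exact ⟨_, hy⟩

end Main

end Groth.Agent.Vancyc.H679.PropLES
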