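import Groth.Agent.Vancyc.H679.ConeMulti
import Groth.Agent.Vancyc.H679.PropLES

/-!
# The long exact sequence of vanishing cycles with arbitrary isolated vanishing cycles

`T` satisfies proper base change for `i : T₀ ⟶ T`, `g : W ⟶ T` is any morphism, `F` is killed by `N > 0`
on `T`, and `F ⟶ Rg_* g^* F` is an isomorphism at all points of `T₀` outside a finite set `Sig` of closed
points with separably closed residue fields.
-/

set_option autoImplicit false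
set_option linter.unusedSectionVars false
set_option linter.auxLemma false
universe u
open CategoryTheory CategoryTheory.Limits CategoryTheory.Abelian AlgebraicGeometry Opposite
open Groth.Agent.Etrest

noncomputable section
namespace Groth.Agent.Vancyc.H679.PropMulti

open Groth.Agent Groth.Agent.Vancyc.H679.PropLES Groth.Agent.Vancyc.H679.EtLES

section Et

attribute [local instance 10000] EtCoh.H._proof_1 EtCoh.Rpush._proof_2
attribute [local instance 10000] Groth.Agent.Sga4B.TwoRowEt.he Groth.Agent.Sga4B.TwoRowEt.hinj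
attribute [local instance 10000] Groth.Agent.Sga4B.TwoRowEt.hPullAdd Groth.Agent.Sga4B.TwoRowEt.hPullPFC
attribute [local instance 10000] Groth.Agent.Sga4B.TwoRowEt.hasKInj

variable {X Y : Scheme.{u}} (g : X ⟶ Y) [PreservesFiniteLimits (EtCoh.pull g)] (F : EtCoh.Ab Y)

/-- The long exact sequence of `F ⟶ Rg_* g^* F` when all rows are acyclic. -/
theorem etMulti
    (hK : ∀ j : ℕ, 1 ≤ j → Subsingleton (EtCoh.H Y (kernel ((EtCoh.pullPushAdj g).unit.app F)) j))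
    (h0 : ∀ j : ℕ, 1 ≤ j → Subsingleton (EtCoh.H Y (cokernel ((EtCoh.pullPushAdj g).unit.app F)) j))
    (h1 : ∀ q : ℕ, 1 ≤ q → ∀ j : ℕ, 1 ≤ j →
      Subsingleton (EtCoh.H Y ((EtCoh.Rpush g q).obj ((EtCoh.pull g).obj F)) j)) :
    ∃ (V : ℕ → EtCoh.Ab Y) (_ : Nonempty (V 0 ≅ cokernel ((EtCoh.pullPushAdj g).unit.app F)))
      (_ : ∀ n, 1 ≤ n → Nonempty (V n ≅ (EtCoh.Rpush g n).obj ((EtCoh.pull g).obj F)))
      (φ : ∀ n : ℕ, EtCoh.H X ((EtCoh.pull g).obj F) n →+ EtCoh.H Y (V n) 0)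
      (ψ : ∀ n : ℕ, EtCoh.H Y (V n) 0 →+ EtCoh.H Y F (n + 1)),
      (∀ n : ℕ, (φ n).ker = (EtCore.Hpull g F n).range) ∧ (∀ n : ℕ, (ψ n).ker = (φ n).range) ∧
      (∀ n : ℕ, (EtCore.Hpull g F (n + 1)).ker = (ψ n).range) := by
  have hp := hPushPFL g
  obtain ⟨V, hV0, hV1, φ, ψ, a3, a4, a5⟩ :=
    ConeMulti.multi.{u + 1, u + 1} (EtCoh.pullPushAdj g) (EtCoh.const Y ℤ) F hK h0 h1
  refine ⟨V, hV0, hV1, fun n => (φ n).comp (preC g _ n).symm.toAddMonoidHom, ψ, ?_, ?_, ?_⟩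
  · intro n
    ext x
    have h5 := SetLike.ext_iff.1 (a3 n) ((preC g _ n).symm x)
    simp only [AddMonoidHom.mem_ker, AddMonoidHom.mem_range] at h5 ⊢
    refine h5.trans ⟨?_, ?_⟩
    · rintro ⟨y, hy⟩
      exact ⟨y, (Hpull_eq g F n y).trans ((congrArg (preC g _ n) hy).trans ((preC g _ n).apply_symm_apply x))⟩
    · rintro ⟨y, hy⟩
      refine ⟨y, ?_⟩
      rw [← hy]
      exact ((preC g _ n).symm_apply_apply _).symm
  · intro n
    ext x
    have h5 := SetLike.ext_iff.1 (a4 n) x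
    simp only [AddMonoidHom.mem_ker, AddMonoidHom.mem_range, AddMonoidHom.comp_apply] at h5 ⊢
    refine h5.trans ⟨?_, ?_⟩
    · rintro ⟨y, hy⟩
      exact ⟨preC g _ n y, (congrArg (φ n) ((preC g _ n).symm_apply_apply y)).trans hy⟩
    · rintro ⟨y, hy⟩
      exact ⟨_, hy⟩
  · intro n
    ext x
    have h5 := SetLike.ext_iff.1 (a5 n) x
    simp only [AddMonoidHom.mem_ker, AddMonoidHom.mem_range] at h5 ⊢
    refine Iff.trans ?_ h5
    rw [Hpull_eq]
    exact AddEquiv.map_eq_zero_iff _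

/-- The kernel of `Hpull` in degree `0`. -/
theorem et_ker_zero : ∃ κ : EtCoh.H Y (kernel ((EtCoh.pullPushAdj g).unit.app F)) 0 →+ EtCoh.H Y F 0,
    Function.Injective κ ∧ (EtCore.Hpull g F 0).ker = κ.range := by
  obtain ⟨κ, h1, h2⟩ := ConeMulti.ker_zero.{u + 1, u + 1} (EtCoh.pullPushAdj g) (EtCoh.const Y ℤ) F
  refine ⟨κ, h1, ?_⟩
  ext x
  have h5 := SetLike.ext_iff.1 h2 x
  simp only [AddMonoidHom.mem_ker, AddMonoidHom.mem_range] at h5 ⊢
  refine Iff.trans ?_ h5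
  rw [Hpull_eq]
  exact AddEquiv.map_eq_zero_iff _

end Et

section Main

variable {T₀ T W : Scheme.{u}} (i : T₀ ⟶ T) (g : W ⟶ T) (F : EtCoh.Ab T)

/-- Vanishing cycles at a geometric point: the cokernel of the unit in degree `0`, the stalk of
`R^q g_* g^* F` in degrees `q ≥ 1`. -/
def Phi : ℕ → ∀ {Ω : Type u} [Field Ω] [IsSepClosed Ω], (Spec (CommRingCat.of Ω) ⟶ T₀) → AddCommGrpCat.{u + 1}
  | 0, _, _, _, ξ => cokernel (uMap i g F ξ)
  | q + 1, _, _, _, ξ => rObj i g F (q + 1) ξ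

variable [PreservesFiniteLimits (EtCoh.pull i)] (hi : PBCi i)
  (Sig : Finset T₀) (hc : ∀ x ∈ Sig, IsClosed ({x} : Set T₀)) (hs : ∀ x ∈ Sig, IsSepClosed (T₀.residueField x))
  [PreservesFiniteLimits (EtCoh.pull g)] {N : ℕ} (hN : 0 < N)
  (hF : EtCoh.KilledBy N F)

include hi hc hs hN hF

section Rows

variable (h1 : ∀ x : T₀, x ∉ Sig → Good i g F x)

include h1

/-- `H^p(T, R^q g_* g^* F) = 0` for `p, q ≥ 1`. -/
theorem subsingleton_H_Rpush (q : ℕ) (hq : 1 ≤ q) (p : ℕ) (hp : 1 ≤ p) :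
    Subsingleton (EtCoh.H T ((EtCoh.Rpush g q).obj ((EtCoh.pull g).obj F)) p) := by
  refine subsingleton_H i hi Sig hc hs _
    (isTorsion_killed hN (killed_Rpush g (EtpbcB.NKillEt.killedBy_pull g hF) q)) (fun x hx => ?_) p hp
  obtain ⟨Ω, _, _, ξ, hξ⟩ := Etcore.Stalks.exists_geom x
  exact ⟨Ω, inferInstance, inferInstance, ξ, hξ, (h1 x hx Ω ξ hξ).2 q hq⟩

theorem subsingleton_H_cokernel (p : ℕ) (hp : 1 ≤ p) :
    Subsingleton (EtCoh.H T (cokernel ((EtCoh.pullPushAdj g).unit.app F)) p) := by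
  have hP : EtCoh.KilledBy N ((EtCoh.push g).obj ((EtCoh.pull g).obj F)) :=
    EtpbcB.NKillEt.killedBy_push g (EtpbcB.NKillEt.killedBy_pull g hF)
  refine subsingleton_H i hi Sig hc hs _
    (isTorsion_killed hN (EtpbcA.SubSheaf.killedBy_of_epi (cokernel.π _) hP)) (fun x hx => ?_) p hp
  obtain ⟨Ω, _, _, ξ, hξ⟩ := Etcore.Stalks.exists_geom x
  have h2 := (h1 x hx Ω ξ hξ).1
  exact ⟨Ω, inferInstance, inferInstance, ξ, hξ,
    isZero_map_cokernel (EtCoh.pull i ⋙ EtCoh.stalk ξ) ((EtCoh.pullPushAdj g).unit.app F)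
      (show Epi (uMap i g F ξ) from inferInstance)⟩

theorem subsingleton_H_kernel (p : ℕ) (hp : 1 ≤ p) :
    Subsingleton (EtCoh.H T (kernel ((EtCoh.pullPushAdj g).unit.app F)) p) := by
  refine subsingleton_H i hi Sig hc hs _
    (isTorsion_killed hN (EtpbcA.SubSheaf.killedBy_of_mono (kernel.ι _) hF)) (fun x hx => ?_) p hp
  obtain ⟨Ω, _, _, ξ, hξ⟩ := Etcore.Stalks.exists_geom x
  have h2 := (h1 x hx Ω ξ hξ).1
  exact ⟨Ω, inferInstance, inferInstance, ξ, hξ,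
    isZero_map_kernel (EtCoh.pull i ⋙ EtCoh.stalk ξ) ((EtCoh.pullPushAdj g).unit.app F)
      (show Mono (uMap i g F ξ) from inferInstance)⟩

/-- The long exact sequence
`0 → ⊕ ker u_x → H^0(T, F) → H^0(W, g^*F) → ⊕ Φ^0_x → H^1(T, F) → H^1(W, g^*F) → ⊕ Φ^1_x → …`. -/
theorem main (Ω : T₀ → Type u) [∀ x, Field (Ω x)] [∀ x, IsSepClosed (Ω x)]
    (ξ : ∀ x : T₀, Spec (CommRingCat.of (Ω x)) ⟶ T₀) (hξ : ∀ x, ξ x default = x) :
    ∃ (κ : (∀ x : Sig, (kernel (uMap i g F (ξ x)) : AddCommGrpCat.{u + 1})) →+ EtCoh.H T F 0)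
      (φ : ∀ n : ℕ, EtCoh.H W ((EtCoh.pull g).obj F) n →+ (∀ x : Sig, Phi i g F n (ξ x)))
      (ψ : ∀ n : ℕ, (∀ x : Sig, Phi i g F n (ξ x)) →+ EtCoh.H T F (n + 1)),
      Function.Injective κ ∧ (EtCore.Hpull g F 0).ker = κ.range ∧
      (∀ n : ℕ, (φ n).ker = (EtCore.Hpull g F n).range) ∧ (∀ n : ℕ, (ψ n).ker = (φ n).range) ∧
      (∀ n : ℕ, (EtCore.Hpull g F (n + 1)).ker = (ψ n).range) := by
  have hG : EtCoh.KilledBy N ((EtCoh.pull g).obj F) := EtpbcB.NKillEt.killedBy_pull g hF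
  have hP : EtCoh.KilledBy N ((EtCoh.push g).obj ((EtCoh.pull g).obj F)) := EtpbcB.NKillEt.killedBy_push g hG
  obtain ⟨κ₀, k1, k2⟩ := et_ker_zero g F
  obtain ⟨V, hV0, hV1, φ, ψ, b3, b4, b5⟩ := etMulti g F
    (fun j hj => subsingleton_H_kernel i g F hi Sig hc hs hN hF h1 j hj)
    (fun j hj => subsingleton_H_cokernel i g F hi Sig hc hs hN hF h1 j hj)
    (fun q hq j hj => subsingleton_H_Rpush i g F hi Sig hc hs hN hF h1 q hq j hj)
  have hVt : ∀ n, EtCoh.IsTorsion (V n) := fun n => by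
    rcases Nat.eq_zero_or_pos n with rfl | hn
    · obtain ⟨e⟩ := hV0
      exact isTorsion_killed hN (EtpbcA.SubSheaf.killedBy_of_mono e.hom
        (EtpbcA.SubSheaf.killedBy_of_epi (cokernel.π _) hP))
    · obtain ⟨e⟩ := hV1 n hn
      exact isTorsion_killed hN (EtpbcA.SubSheaf.killedBy_of_mono e.hom (killed_Rpush g hG n))
  have hVs : ∀ (n : ℕ) (x : T₀), Nonempty ((EtCoh.stalk (ξ x)).obj ((EtCoh.pull i).obj (V n)) ≅
      Phi i g F n (ξ x)) := fun n x => by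
    cases n with
    | zero =>
      obtain ⟨e⟩ := hV0
      exact ⟨(EtCoh.pull i ⋙ EtCoh.stalk (ξ x)).mapIso e ≪≫
        PreservesCokernel.iso (EtCoh.pull i ⋙ EtCoh.stalk (ξ x)) _⟩
    | succ n =>
      obtain ⟨e⟩ := hV1 (n + 1) (by omega)
      exact ⟨(EtCoh.pull i ⋙ EtCoh.stalk (ξ x)).mapIso e⟩
  have hz : ∀ (n : ℕ) (x : T₀), x ∉ Sig → IsZero (Phi i g F n (ξ x)) := fun n x hx => by
    have h2 := h1 x hx (Ω x) (ξ x) (hξ x)
    cases n with
    | zero =>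
      have := h2.1
      exact isZero_cokernel_of_epi (uMap i g F (ξ x))
    | succ n => exact h2.2 (n + 1) (by omega)
  have hE : ∀ n, Nonempty (EtCoh.H T (V n) 0 ≃+ ∀ x : Sig, (Phi i g F n (ξ x) : Type (u + 1))) := fun n => by
    obtain ⟨E₀⟩ := nonempty_equiv i hi Sig hc hs (V n) (hVt n)
      (fun x hx => ⟨Ω x, inferInstance, inferInstance, ξ x, hξ x, (hz n x hx).of_iso (hVs n x).some⟩) Ω ξ hξ
    exact ⟨E₀.trans (AddEquiv.piCongrRight fun x => (hVs n x).some.addCommGroupIsoToAddEquiv)⟩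
  let E := fun n => (hE n).some
  obtain ⟨Eκ⟩ : Nonempty (EtCoh.H T (kernel ((EtCoh.pullPushAdj g).unit.app F)) 0 ≃+
      ∀ x : Sig, ((kernel (uMap i g F (ξ x)) : AddCommGrpCat.{u + 1}) : Type (u + 1))) := by
    have hk : ∀ x : T₀, Nonempty ((EtCoh.stalk (ξ x)).obj ((EtCoh.pull i).obj
        (kernel ((EtCoh.pullPushAdj g).unit.app F))) ≅ kernel (uMap i g F (ξ x))) := fun x =>
      ⟨PreservesKernel.iso (EtCoh.pull i ⋙ EtCoh.stalk (ξ x)) _⟩
    obtain ⟨E₀⟩ := nonempty_equiv i hi Sig hc hs (kernel ((EtCoh.pullPushAdj g).unit.app F))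
      (isTorsion_killed hN (EtpbcA.SubSheaf.killedBy_of_mono (kernel.ι _) hF))
      (fun x hx => ⟨Ω x, inferInstance, inferInstance, ξ x, hξ x, by
        have h2 := (h1 x hx (Ω x) (ξ x) (hξ x)).1
        exact isZero_map_kernel (EtCoh.pull i ⋙ EtCoh.stalk (ξ x)) ((EtCoh.pullPushAdj g).unit.app F)
          (show Mono (uMap i g F (ξ x)) from inferInstance)⟩) Ω ξ hξ
    exact ⟨E₀.trans (AddEquiv.piCongrRight fun x => (hk x).some.addCommGroupIsoToAddEquiv)⟩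
  refine ⟨κ₀.comp Eκ.symm.toAddMonoidHom, fun n => (E n).toAddMonoidHom.comp (φ n),
    fun n => (ψ n).comp (E n).symm.toAddMonoidHom, ?_, ?_, fun n => ?_, fun n => ?_, fun n => ?_⟩
  · exact k1.comp Eκ.symm.injective
  · ext x
    have h5 := SetLike.ext_iff.1 k2 x
    simp only [AddMonoidHom.mem_ker, AddMonoidHom.mem_range, AddMonoidHom.comp_apply] at h5 ⊢
    refine h5.trans ⟨?_, ?_⟩
    · rintro ⟨y, hy⟩
      exact ⟨Eκ y, (congrArg κ₀ (Eκ.symm_apply_apply y)).trans hy⟩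
    · rintro ⟨y, hy⟩
      exact ⟨_, hy⟩
  · ext x
    have h5 := SetLike.ext_iff.1 (b3 n) x
    simp only [AddMonoidHom.mem_ker, AddMonoidHom.mem_range, AddMonoidHom.comp_apply] at h5 ⊢
    exact Iff.trans (AddEquiv.map_eq_zero_iff (E n)) h5
  · ext x
    have h5 := SetLike.ext_iff.1 (b4 n) ((E n).symm x)
    simp only [AddMonoidHom.mem_ker, AddMonoidHom.mem_range, AddMonoidHom.comp_apply] at h5 ⊢
    refine h5.trans ⟨?_, ?_⟩
    · rintro ⟨y, hy⟩
      exact ⟨y, (congrArg (E n) hy).trans ((E n).apply_symm_apply x)⟩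
    · rintro ⟨y, hy⟩
      exact ⟨y, ((E n).symm_apply_apply _).symm.trans (congrArg (E n).symm hy)⟩
  · ext x
    have h5 := SetLike.ext_iff.1 (b5 n) x
    simp only [AddMonoidHom.mem_ker, AddMonoidHom.mem_range, AddMonoidHom.comp_apply] at h5 ⊢
    refine h5.trans ⟨?_, ?_⟩
    · rintro ⟨y, hy⟩
      exact ⟨E n y, (congrArg (ψ n) ((E n).symm_apply_apply y)).trans hy⟩
    · rintro ⟨y, hy⟩
      exact ⟨_, hy⟩

end Rows

end Main

end Groth.Agent.Vancyc.H679.PropMulti
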