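import Groth.Agent.Vancyc.H679.PicLefK
import Groth.Agent.Vancyc.H679.PicLef
import Groth.Agent.S3993

/-!
# Classes on the geometric generic fibre which die on the Milnor fibres lift: the Picard–Lefschetz setting
-/

set_option autoImplicit false
universe u
open CategoryTheory CategoryTheory.Limits CategoryTheory.Abelian AlgebraicGeometry Opposite

namespace Groth.Agent.Vancyc.H679.PicLefHK

open Groth.Agent Groth.Agent.Vancyc.H679.PropLES Groth.Agent.Vancyc.H679.GoodSing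

theorem good (R K Ω : Type u) [CommRing R] [IsDomain R] [IsDiscreteValuationRing R]
    (hR : EtCoh.IsStrictlyHenselianLocalRing R) [Field K] [Algebra R K] [IsFractionRing R K] [Field Ω]
    [Algebra K Ω] [IsSepClosure K Ω] [Algebra R Ω] [IsScalarTower R K Ω]
    {X : Scheme.{u}} (f : X ⟶ Spec (CommRingCat.of R)) [IsProper f] [Flat f] (n : ℕ)
    (Sing : Finset ↥(VanCyc.spFib R f))
    (U : (VanCyc.spFib R f).Opens) (hU : ∀ x : ↥(VanCyc.spFib R f), x ∉ Sing → x ∈ U)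
    (hUs : SmoothOfRelativeDimension n (U.ι ≫ VanCyc.spStr R f))
    (N : ℕ) (hN : IsUnit (N : R)) (x : ↥(VanCyc.spFib R f)) (hx : x ∉ Sing) :
    Good (VanCyc.icl R f) (VanCyc.jA R f Ω) (EtCoh.const X (ZMod N)) x := by
  obtain ⟨W, hW, hW'⟩ := Vancyc.H678.SmoothW.exists_opens_smooth_of_sing R f n Sing U hU hUs
  refine good_of_inSmooth ?_ W hW x (hW' x hx)
  intro V hV x hx Ω'' _ _ ζ hζ
  exact S3993.result R K Ω hR f V hV x hx ζ hζ N hN _ (isLocallyConstant_const X (ZMod N)) (killedBy_const X N)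

section

open scoped Groth.Agent.Etcore.EtInst
open Groth.Agent.Vancyc.H681.Restr Groth.Agent.EtpbcB.StrictLoc Groth.Agent.Etcore.EtInst
  Groth.Agent.Etcore.HpullCalc

attribute [local instance 10000] Groth.Agent.Sga4B.TwoRowEt.hPullPFL

theorem lifts_aux (R Ω : Type u) [CommRing R] [IsDomain R] [IsDiscreteValuationRing R]
    [IsSepClosed (IsLocalRing.ResidueField R)] [Field Ω] [Algebra R Ω]
    {X : Scheme.{u}} (f : X ⟶ Spec (CommRingCat.of R)) [IsProper f] (hi : PBCi (VanCyc.icl R f))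
    (Sing : Finset ↥(VanCyc.spFib R f)) (hSc : ∀ x ∈ Sing, IsClosed ({x} : Set ↥(VanCyc.spFib R f)))
    (N : ℕ) (hN : 0 < N)
    (h1 : ∀ x : ↥(VanCyc.spFib R f), x ∉ Sing →
      Good (VanCyc.icl R f) (VanCyc.jA R f Ω) (EtCoh.const X (ZMod N)) x)
    (Ω' : ↥Sing → Type u) [∀ x, Field (Ω' x)] [∀ x, IsSepClosed (Ω' x)]
    (ξ : ∀ x : ↥Sing, Spec (CommRingCat.of (Ω' x)) ⟶ VanCyc.spFib R f) (hξ : ∀ x, ξ x default = x.1)
    (m : ℕ) (a : HH (VanCyc.fib R f Ω) ((EtCoh.pull (VanCyc.jA R f Ω)).obj (EtCoh.const X (ZMod N))) m)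
    (ha : ∀ x : ↥Sing, resM f (toBase (ξ x ≫ VanCyc.icl R f)) (EtCoh.const X (ZMod N)) m a = 0) :
    GermK.Lifts (VanCyc.jA R f Ω) (EtCoh.const X (ZMod N)) m a :=
  PicLefK.lifts_of_resM R Ω f hi Sing hSc (EtCoh.const X (ZMod N)) hN (killedBy_const X N)
    h1 Ω' ξ hξ m a ha

theorem isSepClosed_dvr (R : Type u) [CommRing R] [IsDomain R] [IsDiscreteValuationRing R]
    (hR : EtCoh.IsStrictlyHenselianLocalRing R) : IsSepClosed (IsLocalRing.ResidueField R) := by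
  obtain ⟨hH, hS⟩ := hR
  exact hS

theorem pbc_dvr (R : Type u) [CommRing R] [IsDomain R] [IsDiscreteValuationRing R]
    (hR : EtCoh.IsStrictlyHenselianLocalRing R) {X : Scheme.{u}} (f : X ⟶ Spec (CommRingCat.of R))
    [IsProper f] : PBCi (VanCyc.icl R f) := by
  obtain ⟨hH, hS⟩ := hR
  exact PicLef.pbc R f

theorem lifts (R K Ω : Type u) [CommRing R] [IsDomain R] [IsDiscreteValuationRing R]
    (hR : EtCoh.IsStrictlyHenselianLocalRing R) [Field K] [Algebra R K] [IsFractionRing R K] [Field Ω]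
    [Algebra K Ω] [IsSepClosure K Ω] [Algebra R Ω] [IsScalarTower R K Ω]
    {X : Scheme.{u}} (f : X ⟶ Spec (CommRingCat.of R)) [IsProper f] [Flat f] (n : ℕ)
    (Sing : Finset ↥(VanCyc.spFib R f)) (hSc : ∀ x ∈ Sing, IsClosed ({x} : Set ↥(VanCyc.spFib R f)))
    (U : (VanCyc.spFib R f).Opens) (hU : ∀ x : ↥(VanCyc.spFib R f), x ∉ Sing → x ∈ U)
    (hUs : SmoothOfRelativeDimension n (U.ι ≫ VanCyc.spStr R f))
    (N : ℕ) (hN : IsUnit (N : R))
    (Ω' : ↥Sing → Type u) [∀ x, Field (Ω' x)] [∀ x, IsSepClosed (Ω' x)]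
    (ξ : ∀ x : ↥Sing, Spec (CommRingCat.of (Ω' x)) ⟶ VanCyc.spFib R f) (hξ : ∀ x, ξ x default = x.1)
    (m : ℕ) (a : HH (VanCyc.fib R f Ω) ((EtCoh.pull (VanCyc.jA R f Ω)).obj (EtCoh.const X (ZMod N))) m)
    (ha : ∀ x : ↥Sing, resM f (toBase (ξ x ≫ VanCyc.icl R f)) (EtCoh.const X (ZMod N)) m a = 0) :
    GermK.Lifts (VanCyc.jA R f Ω) (EtCoh.const X (ZMod N)) m a := by
  have hS := isSepClosed_dvr R hR
  have hN' : 0 < N := Nat.pos_of_ne_zero (by rintro rfl; simp at hN)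
  exact lifts_aux R Ω f (pbc_dvr R hR f) Sing hSc N hN' (good R K Ω hR f n Sing U hU hUs N hN) Ω' ξ hξ m a ha

/-- In the setting of `S3996`–`S4002`: a class on the geometric generic fibre which dies on the Milnor fibres
`(Spec O^sh_x)_Ω` at the singular points is the restriction of a class on `X`. -/
theorem hK (R K Ω : Type u) [CommRing R] [IsDomain R] [IsDiscreteValuationRing R]
    (hR : EtCoh.IsStrictlyHenselianLocalRing R) [Field K] [Algebra R K] [IsFractionRing R K] [Field Ω]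
    [Algebra K Ω] [IsSepClosure K Ω] [Algebra R Ω] [IsScalarTower R K Ω]
    {X : Scheme.{u}} (f : X ⟶ Spec (CommRingCat.of R)) [IsProper f] [Flat f] (n : ℕ)
    (Sing : Finset ↥(VanCyc.spFib R f)) (hSc : ∀ x ∈ Sing, IsClosed ({x} : Set ↥(VanCyc.spFib R f)))
    (U : (VanCyc.spFib R f).Opens) (hU : ∀ x : ↥(VanCyc.spFib R f), x ∉ Sing → x ∈ U)
    (hUs : SmoothOfRelativeDimension n (U.ι ≫ VanCyc.spStr R f))
    (N : ℕ) (hN : IsUnit (N : R))
    (Ω' : ↥Sing → Type u) [∀ x, Field (Ω' x)] [∀ x, IsSepClosed (Ω' x)]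
    (ξ : ∀ x : ↥Sing, Spec (CommRingCat.of (Ω' x)) ⟶ VanCyc.spFib R f) (hξ : ∀ x, ξ x default = x.1)
    (m : ℕ) (a : HH (VanCyc.fib R f Ω) ((EtCoh.pull (VanCyc.jA R f Ω)).obj (EtCoh.const X (ZMod N))) m)
    (ha : ∀ x : ↥Sing, resM f (toBase (ξ x ≫ VanCyc.icl R f)) (EtCoh.const X (ZMod N)) m a = 0) :
    ∃ b : HH X (EtCoh.const X (ZMod N)) m, hp (VanCyc.jA R f Ω) (EtCoh.const X (ZMod N)) m b = a :=
  (PicLefK.lifts_iff (VanCyc.jA R f Ω) (EtCoh.const X (ZMod N)) m a).1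
    (lifts R K Ω hR f n Sing hSc U hU hUs N hN Ω' ξ hξ m a ha)

end

end Groth.Agent.Vancyc.H679.PicLefHK
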