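import Groth.Agent.Etrest.RDer4

/-!
# The derived unit in degree zero

For `L ⊣ G` with `L` exact: `H^0` of the derived unit `Y[0] ⟶ RG (L Y[0])` is isomorphic, as an arrow, to the
unit `Y ⟶ G L Y`.
-/

set_option autoImplicit false
set_option linter.unusedSectionVars false
universe w w' v v' u u'
open CategoryTheory CategoryTheory.Limits

noncomputable section
namespace Groth.Agent.Vancyc.H679.Unit0

open Groth.Agent.Etrest Groth.Agent.Etrest.RDer2 Groth.Agent.Etrest.RDer3 Groth.Agent.Etrest.RDer4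

section LeftExact

variable {B : Type u} [Category.{v} B] [Abelian B] {A : Type u'} [Category.{v'} A] [Abelian A]
  (G : B ⥤ A) [G.Additive] [PreservesFiniteLimits G]

/-- A left exact functor preserves quasi-isomorphisms `K ⟶ I` in degree zero if `K`, `I` live in degrees `≥ 0`
and `K` has zero differential `K^0 ⟶ K^1`. -/
theorem isIso_homologyMap_zero {K I : CochainComplex B ℤ} (i : K ⟶ I) (hi : QuasiIso i)
    [K.IsStrictlyGE 0] [I.IsStrictlyGE 0] (hd : K.d 0 1 = 0) :
    IsIso (HomologicalComplex.homologyMap ((G.mapHomologicalComplex (.up ℤ)).map i) 0) := by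
  have hK : K.d (-1) 0 = 0 := (K.isZero_of_isStrictlyGE 0 (-1) (by lia)).eq_of_src _ _
  have hI : I.d (-1) 0 = 0 := (I.isZero_of_isStrictlyGE 0 (-1) (by lia)).eq_of_src _ _
  have h1 : QuasiIsoAt i 0 := inferInstance
  rw [quasiIsoAt_iff' i (-1) 0 1 (by simp) (by simp)] at h1
  have h2 := (ShortComplex.quasiIso_iff_of_zeros _ hK hd hI).1 h1
  rw [← quasiIsoAt_iff_isIso_homologyMap, quasiIsoAt_iff' _ (-1) 0 1 (by simp) (by simp)]
  refine (ShortComplex.quasiIso_iff_of_zeros _ (S₁ := ((G.mapHomologicalComplex (.up ℤ)).obj K).sc' (-1) 0 1)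
    (S₂ := ((G.mapHomologicalComplex (.up ℤ)).obj I).sc' (-1) 0 1) ?_ ?_ ?_).2 ?_
  · exact (congrArg G.map hK).trans (G.map_zero _ _)
  · exact (congrArg G.map hd).trans (G.map_zero _ _)
  · exact (congrArg G.map hI).trans (G.map_zero _ _)
  · obtain ⟨h3, h4⟩ := h2
    have h4' : Mono (i.f 0) := h4
    have h5 : (ShortComplex.mk (i.f 0) (I.d 0 1) (by rw [i.comm, hd, zero_comp])).Exact := h3
    have h6 := h5.map_of_mono_of_preservesKernel G h4' inferInstance
    exact ⟨h6, (inferInstance : Mono (G.map (i.f 0)))⟩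

end LeftExact

section Unit

variable {A : Type u} [Category.{v} A] [Abelian A] [HasDerivedCategory.{w} A]
  {B : Type u'} [Category.{v'} B] [Abelian B] [HasDerivedCategory.{w'} B] [HasKInj B] [EnoughInjectives B]
  (G : B ⥤ A) [G.Additive] [PreservesFiniteLimits G]

/-- `H^0(G K) ⟶ H^0(RG K)` is an isomorphism if `K` lives in degrees `≥ 0` and `K^0 ⟶ K^1` is zero. -/
theorem isIso_H0_unitQ (K : CochainComplex B ℤ) [K.IsStrictlyGE 0] (hd : K.d 0 1 = 0) :
    IsIso ((DerivedCategory.homologyFunctor A 0).map ((unitQ G).app K)) := by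
  obtain ⟨I, i, hi, -, hI, hIK⟩ := exists_injRes K 0
  have h1 := isIso_unitQ_of_isKInjective G I hIK
  have h2 : IsIso ((DerivedCategory.Q ⋙ TR G).map i) := by
    have : IsIso (DerivedCategory.Q.map i) := inferInstance
    exact inferInstanceAs (IsIso ((TR G).map (DerivedCategory.Q.map i)))
  have h3 := (unitQ G).naturality i
  have h4 : IsIso ((DerivedCategory.homologyFunctor A 0).map
      ((G.mapHomologicalComplex (.up ℤ) ⋙ DerivedCategory.Q).map i)) := by
    have h5 := isIso_homologyMap_zero G i hi hd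
    exact (NatIso.isIso_map_iff (DerivedCategory.homologyFunctorFactors A 0)
      ((G.mapHomologicalComplex (.up ℤ)).map i)).2 h5
  have h6 : IsIso ((DerivedCategory.homologyFunctor A 0).map
      ((unitQ G).app K ≫ (DerivedCategory.Q ⋙ TR G).map i)) := by
    rw [← h3, Functor.map_comp]
    infer_instance
  rw [Functor.map_comp] at h6
  exact IsIso.of_isIso_comp_right _ ((DerivedCategory.homologyFunctor A 0).map ((DerivedCategory.Q ⋙ TR G).map i))

variable {G} {L : A ⥤ B} [L.Additive] [PreservesFiniteLimits L] [PreservesFiniteColimits L] (adj : L ⊣ G)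

/-- The complex `Y[0]`. -/
abbrev cx (Y : A) : CochainComplex A ℤ := (HomologicalComplex.single A (.up ℤ) 0).obj Y

theorem cx_d (Y : A) (i j : ℤ) : (cx Y).d i j = 0 := HomologicalComplex.single_obj_d ..

/-- `H^j(K) ≅ K^j` if the differentials at `j` vanish. -/
def homologyIsoX {C : Type*} [Category* C] [Abelian C] (K : CochainComplex C ℤ) (i j k : ℤ)
    (hi : (ComplexShape.up ℤ).prev j = i) (hk : (ComplexShape.up ℤ).next j = k) (h1 : K.d i j = 0)
    (h2 : K.d j k = 0) : K.homology j ≅ K.X j :=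
  (K.isoHomologyπ i j hi h1).symm ≪≫ K.iCyclesIso j k hk h2

theorem homologyIsoX_naturality {C : Type*} [Category* C] [Abelian C] {K M : CochainComplex C ℤ} (f : K ⟶ M)
    (i j k : ℤ) (hi : (ComplexShape.up ℤ).prev j = i) (hk : (ComplexShape.up ℤ).next j = k) (h1 : K.d i j = 0)
    (h2 : K.d j k = 0) (h1' : M.d i j = 0) (h2' : M.d j k = 0) :
    HomologicalComplex.homologyMap f j ≫ (homologyIsoX M i j k hi hk h1' h2').hom =
      (homologyIsoX K i j k hi hk h1 h2).hom ≫ f.f j := by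
  have h3 : K.homologyπ j ≫ (K.isoHomologyπ i j hi h1).inv = 𝟙 _ := (K.isoHomologyπ i j hi h1).hom_inv_id
  have h4 : M.homologyπ j ≫ (M.isoHomologyπ i j hi h1').inv = 𝟙 _ := (M.isoHomologyπ i j hi h1').hom_inv_id
  have h5 : IsIso (K.homologyπ j) := K.isIso_homologyπ i j hi h1
  rw [← cancel_epi (K.homologyπ j)]
  simp only [homologyIsoX, Iso.trans_hom, Iso.symm_hom, HomologicalComplex.homologyπ_naturality_assoc,
    Category.assoc, reassoc_of% h3, reassoc_of% h4, HomologicalComplex.iCyclesIso_hom,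
    HomologicalComplex.cyclesMap_i]

/-- The arrow `H^0(adjCx.unit)` is the arrow `unit`. -/
def arrowIsoCx (Y : A) :
    Arrow.mk (HomologicalComplex.homologyMap ((Dcoh.DerAdj.adjCx adj (.up ℤ)).unit.app (cx Y)) 0) ≅
      Arrow.mk (adj.unit.app Y) :=
  haveI h0 : ∀ i j : ℤ, ((L.mapHomologicalComplex (.up ℤ) ⋙ G.mapHomologicalComplex (.up ℤ)).obj (cx Y)).d i j = 0 :=
    fun i j => (congrArg (fun t => G.map (L.map t)) (cx_d Y i j)).trans
        ((congrArg G.map (L.map_zero _ _)).trans (G.map_zero _ _))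
  (Arrow.isoMk (f := Arrow.mk (HomologicalComplex.homologyMap ((Dcoh.DerAdj.adjCx adj (.up ℤ)).unit.app (cx Y)) 0))
    (g := Arrow.mk (((Dcoh.DerAdj.adjCx adj (.up ℤ)).unit.app (cx Y)).f 0))
    (homologyIsoX (cx Y) (-1) 0 1 (by simp) (by simp) (cx_d _ _ _) (cx_d _ _ _))
    (homologyIsoX ((L.mapHomologicalComplex (.up ℤ) ⋙ G.mapHomologicalComplex (.up ℤ)).obj (cx Y)) (-1) 0 1
      (by simp) (by simp) (h0 _ _) (h0 _ _))
    (homologyIsoX_naturality ((Dcoh.DerAdj.adjCx adj (.up ℤ)).unit.app (cx Y)) (-1) 0 1 (by simp) (by simp)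
      (cx_d _ _ _) (cx_d _ _ _) (h0 _ _) (h0 _ _)).symm) ≪≫
    Arrow.isoMk (f := Arrow.mk (adj.unit.app ((cx Y).X 0))) (HomologicalComplex.singleObjXSelf (.up ℤ) 0 Y)
      ((L ⋙ G).mapIso (HomologicalComplex.singleObjXSelf (.up ℤ) 0 Y))
      (adj.unit.naturality (HomologicalComplex.singleObjXSelf (.up ℤ) 0 Y).hom)

/-- Cancelling isomorphisms in arrows. -/
def arrowIsoOfComp {C : Type*} [Category* C] {a b c d : C} (f : a ⟶ b) (g : b ⟶ c) [IsIso g] (h : a ⟶ d) (k : d ⟶ c)
    [IsIso k] (w : f ≫ g = h ≫ k) : Arrow.mk f ≅ Arrow.mk h :=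
  Arrow.isoMk (Iso.refl _) (asIso g ≪≫ (asIso k).symm) (by
    dsimp
    rw [Category.id_comp, ← Category.assoc, IsIso.eq_comp_inv, w])

theorem isIso_H0_unitQ_cx (L : A ⥤ B) [L.Additive] (Y : A) :
    IsIso ((DerivedCategory.homologyFunctor A 0).map
      ((unitQ G).app ((L.mapHomologicalComplex (.up ℤ)).obj (cx Y)))) := by
  have : CochainComplex.IsStrictlyGE ((L.mapHomologicalComplex (.up ℤ)).obj (cx Y)) 0 := inferInstance
  exact isIso_H0_unitQ G _ ((congrArg (fun t => L.map t) (cx_d Y _ _)).trans (L.map_zero _ _))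

/-- The arrow `H^0` of the derived unit at `Y[0]` is the arrow `unit`. -/
def arrowIso (Y : A) :
    Arrow.mk ((DerivedCategory.homologyFunctor A 0).map ((dAdj adj).unit.app (DerivedCategory.Q.obj (cx Y)))) ≅
      Arrow.mk (adj.unit.app Y) :=
  haveI : IsIso ((DerivedCategory.homologyFunctor A 0).map
    ((unitQ G).app ((L.mapHomologicalComplex (.up ℤ)).obj (cx Y)))) := isIso_H0_unitQ_cx L Y
  arrowIsoOfComp ((DerivedCategory.homologyFunctor A 0).map ((dAdj adj).unit.app (DerivedCategory.Q.obj (cx Y))))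
    ((DerivedCategory.homologyFunctor A 0).map ((TR G).map (L.mapDerivedCategoryFactors.hom.app (cx Y))))
    ((DerivedCategory.homologyFunctor A 0).map
      (DerivedCategory.Q.map ((Dcoh.DerAdj.adjCx adj (.up ℤ)).unit.app (cx Y))))
    ((DerivedCategory.homologyFunctor A 0).map
      ((unitQ G).app ((L.mapHomologicalComplex (.up ℤ)).obj (cx Y))))
    (((DerivedCategory.homologyFunctor A 0).map_comp _ _).symm.trans
      ((congrArg (DerivedCategory.homologyFunctor A 0).map (dAdj_unit adj (cx Y))).trans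
        ((DerivedCategory.homologyFunctor A 0).map_comp _ _))) ≪≫
    Arrow.isoMk (f := Arrow.mk ((DerivedCategory.homologyFunctor A 0).map
      (DerivedCategory.Q.map ((Dcoh.DerAdj.adjCx adj (.up ℤ)).unit.app (cx Y)))))
      (g := Arrow.mk (HomologicalComplex.homologyMap ((Dcoh.DerAdj.adjCx adj (.up ℤ)).unit.app (cx Y)) 0))
      ((DerivedCategory.homologyFunctorFactors A 0).app (cx Y))
      ((DerivedCategory.homologyFunctorFactors A 0).app
        ((L.mapHomologicalComplex (.up ℤ) ⋙ G.mapHomologicalComplex (.up ℤ)).obj (cx Y)))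
      ((DerivedCategory.homologyFunctorFactors A 0).hom.naturality
        ((Dcoh.DerAdj.adjCx adj (.up ℤ)).unit.app (cx Y))).symm ≪≫ arrowIsoCx adj Y

end Unit

end Groth.Agent.Vancyc.H679.Unit0
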