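import Groth.Agent.Vancyc.H679.ConeLES
import Groth.Agent.Vancyc.H679.Unit0
import Mathlib.Algebra.Homology.DerivedCategory.Ext.Map
import Mathlib.CategoryTheory.Shift.Adjunction

/-!
# The long exact sequence comparing `Ext^m(Z, Y)` with `Ext^m(LZ, LY)`
-/

set_option autoImplicit false
set_option linter.unusedSectionVars false
universe w₁ w₂ w w' v v' u u'
open CategoryTheory CategoryTheory.Limits CategoryTheory.Pretriangulated DerivedCategory Opposite
open CategoryTheory.Abelian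

noncomputable section
namespace Groth.Agent.Vancyc.H679.AdjLES

open Groth.Agent.Sga4B DerivedCategory.TStructure ConeLES

section Shift

variable {B : Type u} [Category.{v} B] [Abelian B] {A : Type u'} [Category.{v'} A] [Abelian A]
  [HasDerivedCategory.{w₁} B] [HasDerivedCategory.{w₂} A] [HasExt.{w} B] [HasExt.{w'} A]
  {L : B ⥤ A} [L.Additive] [PreservesFiniteLimits L] [PreservesFiniteColimits L]
  {R : DerivedCategory A ⥤ DerivedCategory B} [R.Additive] [R.CommShift ℤ]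
  (adjD : L.mapDerivedCategory ⊣ R) [adjD.CommShift ℤ]

/-- `Hom(Z[0], (R L Y[0])[m]) ≃ Ext^m(LZ, LY)`. -/
def eqv (Z Y : B) (m : ℕ) : ((singleFunctor B 0).obj Z ⟶
      (R.obj (L.mapDerivedCategory.obj ((singleFunctor B 0).obj Y)))⟦(m : ℤ)⟧) ≃+
    Ext.{w'} (L.obj Z) (L.obj Y) m :=
  AddEquiv.trans
    { toEquiv := ((Iso.homCongr (Iso.refl ((singleFunctor B 0).obj Z))
        ((R.commShiftIso (m : ℤ)).app _).symm).trans (adjD.homEquiv _ _).symm).trans
        (Iso.homCongr ((L.mapDerivedCategorySingleFunctor 0).app Z)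
          ((shiftFunctor _ (m : ℤ)).mapIso ((L.mapDerivedCategorySingleFunctor 0).app Y)))
      map_add' := fun f g => by
        simp [Iso.homCongr, Adjunction.homEquiv_counit, Preadditive.add_comp, Preadditive.comp_add,
          Functor.map_add] } (Ext.homAddEquiv (X := L.obj Z) (Y := L.obj Y) (n := m)).symm

theorem eqv_hom (Z Y : B) (m : ℕ) (f : (singleFunctor B 0).obj Z ⟶
      (R.obj (L.mapDerivedCategory.obj ((singleFunctor B 0).obj Y)))⟦(m : ℤ)⟧) :
    (eqv adjD Z Y m f).hom = (L.mapDerivedCategorySingleFunctor 0).inv.app Z ≫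
      (adjD.homEquiv _ _).symm (f ≫ (R.commShiftIso (m : ℤ)).inv.app _) ≫
        ((L.mapDerivedCategorySingleFunctor 0).hom.app Y)⟦(m : ℤ)⟧' := by
  have h1 : Ext.homAddEquiv (eqv adjD Z Y m f) = (L.mapDerivedCategorySingleFunctor 0).inv.app Z ≫
      (adjD.homEquiv _ _).symm ((𝟙 _) ≫ f ≫ (R.commShiftIso (m : ℤ)).inv.app _) ≫
        ((L.mapDerivedCategorySingleFunctor 0).hom.app Y)⟦(m : ℤ)⟧' :=
    (Ext.homAddEquiv (X := L.obj Z) (Y := L.obj Y) (n := m)).apply_symm_apply _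
  rw [Category.id_comp] at h1
  exact h1

theorem eqv_post (Z Y : B) (m : ℕ) (x : Ext.{w} Z Y m) :
    eqv adjD Z Y m (post ((singleFunctor B 0).obj Z) (adjD.unit.app ((singleFunctor B 0).obj Y)) m x.hom) =
      x.mapExactFunctor L := by
  apply Ext.ext
  rw [eqv_hom, Ext.mapExactFunctor_hom]
  refine congrArg (fun t => _ ≫ t ≫ _) ?_
  rw [Equiv.symm_apply_eq, post_apply, adjD.shift_unit_app]
  have h1 := (R.commShiftIso (m : ℤ)).hom_inv_id_app (L.mapDerivedCategory.obj ((singleFunctor B 0).obj Y))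
  have h2 := adjD.unit.naturality x.hom
  rw [Adjunction.homEquiv_unit]
  change (x.hom ≫ adjD.unit.app _ ≫ R.map _ ≫ (R.commShiftIso (m : ℤ)).hom.app _) ≫
    (R.commShiftIso (m : ℤ)).inv.app _ = adjD.unit.app _ ≫ R.map (L.mapDerivedCategory.map x.hom ≫
      (L.mapDerivedCategory.commShiftIso (m : ℤ)).hom.app _)
  rw [Category.assoc, Category.assoc, Category.assoc, h1, Functor.map_comp]
  erw [Category.comp_id]
  rw [← Category.assoc, ← Category.assoc]
  exact congrArg (fun t => t ≫ _) h2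

end Shift

section NoShift

variable {B : Type u} [Category.{v} B] [Abelian B] {A : Type u'} [Category.{v'} A] [Abelian A]
  [HasDerivedCategory.{w₁} B] [HasDerivedCategory.{w₂} A] [HasExt.{w} B] [HasExt.{w'} A]
  {L : B ⥤ A} [L.Additive] [PreservesFiniteLimits L] [PreservesFiniteColimits L]
  {R : DerivedCategory A ⥤ DerivedCategory B} [R.Additive]
  (adjD : L.mapDerivedCategory ⊣ R)

theorem exists_eqv (Z Y : B) (m : ℕ) : ∃ e : ((singleFunctor B 0).obj Z ⟶
      (R.obj (L.mapDerivedCategory.obj ((singleFunctor B 0).obj Y)))⟦(m : ℤ)⟧) ≃+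
      Ext.{w'} (L.obj Z) (L.obj Y) m, ∀ x : Ext.{w} Z Y m,
    e (post ((singleFunctor B 0).obj Z) (adjD.unit.app ((singleFunctor B 0).obj Y)) m x.hom) =
      x.mapExactFunctor L := by
  let := adjD.rightAdjointCommShift ℤ
  have := adjD.commShift_of_leftAdjoint ℤ
  exact ⟨eqv adjD Z Y m, eqv_post adjD Z Y m⟩

end NoShift

section Main

open Groth.Agent.Etrest.RDer3 Groth.Agent.Etrest.RDer4

variable {B : Type u} [Category.{v} B] [Abelian B] {A : Type u'} [Category.{v'} A] [Abelian A]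
  [HasExt.{w} B] [HasExt.{w'} A] [HasKInj A] [EnoughInjectives A] [HasInjectiveResolutions A]
  {L : B ⥤ A} [L.Additive] [PreservesFiniteLimits L] [PreservesFiniteColimits L]
  {G : A ⥤ B} [G.Additive] [PreservesFiniteLimits G] (adj : L ⊣ G)

section

variable [HasDerivedCategory.{w₁} B] [HasDerivedCategory.{w₂} A]

/-- `H^0` of the derived unit at `Y[0]`. -/
def arrowIsoSingle (Y : B) :
    Arrow.mk ((homologyFunctor B 0).map ((dAdj adj).unit.app ((singleFunctor B 0).obj Y))) ≅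
      Arrow.mk (adj.unit.app Y) :=
  Arrow.isoMk (f := Arrow.mk ((homologyFunctor B 0).map ((dAdj adj).unit.app ((singleFunctor B 0).obj Y))))
    (g := Arrow.mk ((homologyFunctor B 0).map ((dAdj adj).unit.app (Q.obj (Unit0.cx Y)))))
    ((homologyFunctor B 0).mapIso ((singleFunctorIsoCompQ B 0).app Y))
    ((homologyFunctor B 0).mapIso ((L.mapDerivedCategory ⋙ TR G).mapIso ((singleFunctorIsoCompQ B 0).app Y)))
    (by
      have h1 := (dAdj adj).unit.naturality ((singleFunctorIsoCompQ B 0).app Y).hom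
      exact ((homologyFunctor B 0).map_comp _ _).symm.trans ((congrArg (homologyFunctor B 0).map h1).trans
        ((homologyFunctor B 0).map_comp _ _))) ≪≫ Unit0.arrowIso adj Y

/-- `H^q(RG(L Y[0])) ≅ R^qG(L Y)`. -/
def homologyIso (Y : B) (q : ℕ) :
    (homologyFunctor B (q : ℤ)).obj ((TR G).obj (L.mapDerivedCategory.obj ((singleFunctor B 0).obj Y))) ≅
      (G.rightDerived q).obj (L.obj Y) :=
  (homologyFunctor B (q : ℤ)).mapIso ((TR G).mapIso ((L.mapDerivedCategorySingleFunctor 0).app Y)) ≪≫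
    (HTRsingle G q).app (L.obj Y)

theorem isGE_T (Y : B) : ((TR G).obj (L.mapDerivedCategory.obj ((singleFunctor B 0).obj Y))).IsGE 0 := by
  have h1 := TR_isGE G ((singleFunctor A 0).obj (L.obj Y)) 0
  rw [isGE_iff] at h1 ⊢
  intro i hi
  exact (h1 i hi).of_iso ((homologyFunctor B i).mapIso ((TR G).mapIso ((L.mapDerivedCategorySingleFunctor 0).app Y)))

end

/-- The long exact sequence around the only non-acyclic row. -/
theorem main (n : ℕ) (Z Y : B)
    (hK : ∀ j : ℕ, Subsingleton (Ext.{w} Z (kernel (adj.unit.app Y)) j))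
    (h0 : ∀ j : ℕ, (0 ≠ n ∨ j ≠ 0) → Subsingleton (Ext.{w} Z (cokernel (adj.unit.app Y)) j))
    (h1 : ∀ q : ℕ, 1 ≤ q → ∀ j : ℕ, (q ≠ n ∨ j ≠ 0) →
      Subsingleton (Ext.{w} Z ((G.rightDerived q).obj (L.obj Y)) j)) :
    (∀ m : ℕ, m ≠ n + 1 → Function.Injective (L.mapExtAddHom Z Y m : Ext.{w} Z Y m →+ Ext.{w'} _ _ m)) ∧
    (∀ m : ℕ, m ≠ n → Function.Surjective (L.mapExtAddHom Z Y m : Ext.{w} Z Y m →+ Ext.{w'} _ _ m)) ∧
    ∃ (V : B) (_ : n = 0 → Nonempty (V ≅ cokernel (adj.unit.app Y)))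
      (_ : 1 ≤ n → Nonempty (V ≅ (G.rightDerived n).obj (L.obj Y)))
      (φ : Ext.{w'} (L.obj Z) (L.obj Y) n →+ Ext.{w} Z V 0) (ψ : Ext.{w} Z V 0 →+ Ext.{w} Z Y (n + 1)),
      φ.ker = (L.mapExtAddHom Z Y n : Ext.{w} Z Y n →+ Ext.{w'} _ _ n).range ∧ ψ.ker = φ.range ∧
        (L.mapExtAddHom Z Y (n + 1) : Ext.{w} Z Y (n + 1) →+ Ext.{w'} _ _ (n + 1)).ker = ψ.range := by
  let := HasDerivedCategory.standard B
  let := HasDerivedCategory.standard A
  have hTG := isGE_T (L := L) (G := G) Y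
  let u : (singleFunctor B 0).obj Y ⟶ (TR G).obj (L.mapDerivedCategory.obj ((singleFunctor B 0).obj Y)) :=
    (dAdj adj).unit.app ((singleFunctor B 0).obj Y)
  obtain ⟨C, g, h, hT⟩ := distinguished_cocone_triangle u
  let e := arrowIsoSingle adj Y
  let e' : Arrow.mk ((homologyFunctor B 0).map u) ≅ Arrow.mk (adj.unit.app Y) := e
  let ek : kernel ((homologyFunctor B 0).map u) ≅ kernel (adj.unit.app Y) :=
    kernel.mapIso _ _ (Arrow.leftFunc.mapIso e') (Arrow.rightFunc.mapIso e') e'.hom.w.symm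
  let ec : cokernel ((homologyFunctor B 0).map u) ≅ cokernel (adj.unit.app Y) :=
    cokernel.mapIso _ _ (Arrow.leftFunc.mapIso e') (Arrow.rightFunc.mapIso e') e'.hom.w.symm
  have hC := isGE_cone u g h hT
  have hv := ext_cone.{w} u g h hT n Z (fun j => subsingleton_ext_iso ek.symm j (hK j))
    (fun j hj => subsingleton_ext_iso ec.symm j (h0 j hj))
    (fun q hq j hj => subsingleton_ext_iso (homologyIso (L := L) (G := G) Y q).symm j (h1 q hq j hj))
  choose E hE using fun m : ℕ => exists_eqv.{_, _, w, w'} (dAdj adj) Z Y m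
  have hmap : ∀ (m : ℕ) (x : Ext.{w} Z Y m), (L.mapExtAddHom Z Y m : Ext.{w} Z Y m →+ Ext.{w'} _ _ m) x =
      E m (post ((singleFunctor B 0).obj Z) u m (Ext.homAddEquiv x)) := fun m x => (hE m x).symm
  refine ⟨fun m hm => ?_, fun m hm => ?_, ?_⟩
  · have h2 := post_injective.{w} u g h hT n Z hv (m : ℤ) (by lia)
    intro x y hxy
    rw [hmap, hmap] at hxy
    exact Ext.homAddEquiv.injective (h2 ((E m).injective hxy))
  · have h2 := post_surjective.{w} u g h hT n Z hv (m : ℤ) (by lia)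
    intro y
    obtain ⟨f, hf⟩ := h2 ((E m).symm y)
    refine ⟨Ext.homAddEquiv.symm f, ?_⟩
    rw [hmap, AddEquiv.apply_symm_apply, hf, AddEquiv.apply_symm_apply]
  · obtain ⟨φ, ψ, h2, h3, h4⟩ := exists_maps.{w} u g h hT n Z hv
    refine ⟨(homologyFunctor B (n : ℤ)).obj C, ?_, ?_, φ.comp (E n).symm.toAddMonoidHom,
      (Ext.homAddEquiv (X := Z) (Y := Y) (n := n + 1)).symm.toAddMonoidHom.comp ψ, ?_, ?_, ?_⟩
    · rintro rfl
      obtain ⟨e1⟩ := nonempty_iso_H_cone_zero u g h hT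
      exact ⟨e1.symm ≪≫ ec⟩
    · intro hn
      have := isIso_H_cone u g h hT n (by lia) (by lia)
      exact ⟨(asIso ((homologyFunctor B (n : ℤ)).map g)).symm ≪≫ homologyIso (L := L) (G := G) Y n⟩
    · ext x
      have h5 := SetLike.ext_iff.1 h2 ((E n).symm x)
      simp only [AddMonoidHom.mem_ker, AddMonoidHom.mem_range] at h5 ⊢
      refine h5.trans ⟨?_, ?_⟩
      · rintro ⟨y, hy⟩
        refine ⟨Ext.homAddEquiv.symm y, ?_⟩
        rw [hmap, AddEquiv.apply_symm_apply, hy, AddEquiv.apply_symm_apply]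
      · rintro ⟨y, hy⟩
        refine ⟨Ext.homAddEquiv y, ?_⟩
        rw [← hy, hmap, AddEquiv.symm_apply_apply]
    · ext x
      have h5 := SetLike.ext_iff.1 h3 x
      simp only [AddMonoidHom.mem_ker, AddMonoidHom.mem_range, AddMonoidHom.comp_apply] at h5 ⊢
      refine Iff.trans ?_ (h5.trans ⟨?_, ?_⟩)
      · exact AddEquiv.map_eq_zero_iff _
      · rintro ⟨y, hy⟩
        exact ⟨E n y, (congrArg φ ((E n).symm_apply_apply y)).trans hy⟩
      · rintro ⟨y, hy⟩
        exact ⟨_, hy⟩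
    · ext x
      have h5 := SetLike.ext_iff.1 h4 (Ext.homAddEquiv x)
      simp only [AddMonoidHom.mem_ker, AddMonoidHom.mem_range, AddMonoidHom.comp_apply] at h5 ⊢
      refine Iff.trans ?_ (h5.trans ⟨?_, ?_⟩)
      · rw [hmap]
        exact AddEquiv.map_eq_zero_iff _
      · rintro ⟨y, hy⟩
        exact ⟨y, (congrArg Ext.homAddEquiv.symm hy).trans (AddEquiv.symm_apply_apply _ _)⟩
      · rintro ⟨y, hy⟩
        exact ⟨y, (AddEquiv.apply_symm_apply Ext.homAddEquiv _).symm.trans (congrArg Ext.homAddEquiv hy)⟩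

end Main

end Groth.Agent.Vancyc.H679.AdjLES
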