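import Groth.Agent.Sga4B.ExtTrunc

/-!
# The long exact sequence of a map `u : Y[0] ⟶ T` whose cone has one row that is not acyclic
-/

set_option autoImplicit false
set_option linter.unusedSectionVars false
universe w w' v u
open CategoryTheory CategoryTheory.Limits CategoryTheory.Pretriangulated DerivedCategory Opposite
open CategoryTheory.Abelian

namespace Groth.Agent.Vancyc.H679.ConeLES

open Groth.Agent.Sga4B DerivedCategory.TStructure

variable {B : Type u} [Category.{v} B] [Abelian B] [HasDerivedCategory.{w'} B] [HasExt.{w} B]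

theorem subsingleton_ext_iso {Z W W' : B} (e : W ≅ W') (j : ℕ) (h : Subsingleton (Ext.{w} Z W j)) :
    Subsingleton (Ext.{w} Z W' j) := by
  refine ⟨fun x y => ?_⟩
  have h2 : ∀ z : Ext.{w} Z W' j, z = (z.comp (Ext.mk₀ e.inv) (add_zero j)).comp
      (Ext.mk₀ e.hom) (add_zero j) := by
    intro z
    rw [Ext.comp_assoc_of_third_deg_zero, Ext.mk₀_comp_mk₀, Iso.inv_hom_id, Ext.comp_mk₀_id]
  rw [h2 x, h2 y]
  exact congrArg (fun z => Ext.comp z _ (add_zero j)) (h.elim _ _)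

theorem subsingleton_ext_isZero {Z W : B} (hW : IsZero W) (j : ℕ) : Subsingleton (Ext.{w} Z W j) := by
  refine ⟨fun x y => ?_⟩
  have h2 : ∀ z : Ext.{w} Z W j, z = 0 := by
    intro z
    have h3 : z.comp (Ext.mk₀ (𝟙 W)) (add_zero j) = z := Ext.comp_mk₀_id _
    rw [← h3, hW.eq_of_src (𝟙 W) 0, Ext.mk₀_zero, Ext.comp_zero]
  rw [h2 x, h2 y]

/-- Maps `Z[0] ⟶ W[k]` vanish for `W ∈ D^{≥ k+1}`. -/
theorem hom_eq_zero_of_isGE (k : ℤ) (Z : B) (W : DerivedCategory B) (hW : t.IsGE W (k + 1))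
    (f : (singleFunctor B 0).obj Z ⟶ W⟦k⟧) : f = 0 := by
  have h1 : t.IsLE ((singleFunctor B 0).obj Z) 0 := (inferInstance : ((singleFunctor B 0).obj Z).IsLE 0)
  have h3 : t.IsGE (W⟦k⟧) 1 := t.isGE_shift _ (k + 1) k 1 (by lia)
  exact t.zero_of_isLE_of_isGE f 0 1 (by lia) h1 h3

/-- Maps `Z[0] ⟶ C[k]` vanish if `Ext^j(Z, H^q C) = 0` for all `j + q = k` (`C` bounded below). -/
theorem hom_eq_zero (a k : ℤ) (Z : B) (C : DerivedCategory B) [hC : C.IsGE a]
    (h : ∀ (q : ℤ) (j : ℕ), (j : ℤ) + q = k → Subsingleton (Ext.{w} Z ((homologyFunctor B q).obj C) j))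
    (f : (singleFunctor B 0).obj Z ⟶ C⟦k⟧) : f = 0 := by
  have hT := t.triangleLEGE_distinguished k (k + 1) rfl C
  have h1 : f ≫ ((t.truncGEπ (k + 1)).app C)⟦k⟧' = 0 :=
    hom_eq_zero_of_isGE k Z _ inferInstance _
  obtain ⟨g, hg⟩ : ∃ g : (singleFunctor B 0).obj Z ⟶ ((t.truncLE k).obj C)⟦k⟧,
      g ≫ ((t.truncLEι k).app C)⟦k⟧' = f := ExtTrunc.exact₂ _ _ hT k f h1
  have i1 : ((t.truncLE k).obj C).IsLE k := (inferInstance : t.IsLE ((t.truncLE k).obj C) k)
  have i2 : ((t.truncLE k).obj C).IsGE a := by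
    have : t.IsGE C a := hC
    exact (inferInstance : t.IsGE ((t.truncLE k).obj C) a)
  have h2 : g = 0 := ExtTrunc.hom_eq_zero_of_ext.{w} a k k Z _ (fun q j _ hq hj => by
    have h3 := DTrunc.isIso_homology_truncLE k q hq C
    exact subsingleton_ext_iso (asIso ((homologyFunctor B q).map ((t.truncLEι k).app C))).symm j (h q j hj)) g
  rw [← hg, h2]
  exact zero_comp

/-- `Hom(Z[0], C[n]) ≃ Hom(Z, H^n C)` if `Ext^j(Z, H^q C) = 0` for `q < n`, `j + q ∈ {n, n + 1}`. -/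
theorem nonempty_equiv (a n : ℤ) (Z : B) (C : DerivedCategory B) [hC : C.IsGE a]
    (h : ∀ (q : ℤ) (j : ℕ), q < n → Subsingleton (Ext.{w} Z ((homologyFunctor B q).obj C) j)) :
    Nonempty (((singleFunctor B 0).obj Z ⟶ C⟦n⟧) ≃+ Ext.{w} Z ((homologyFunctor B n).obj C) 0) := by
  have hT := t.triangleLEGE_distinguished n (n + 1) rfl C
  have i1 : ((t.truncLE n).obj C).IsLE n := (inferInstance : t.IsLE ((t.truncLE n).obj C) n)
  have i2 : ((t.truncLE n).obj C).IsGE a := by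
    have : t.IsGE C a := hC
    exact (inferInstance : t.IsGE ((t.truncLE n).obj C) a)
  have hb := ExtTrunc.hi_bijective.{w} a n n 0 (by simp) Z ((t.truncLE n).obj C) (fun q j _ hq _ => by
    have h3 := DTrunc.isIso_homology_truncLE n q hq.le C
    exact subsingleton_ext_iso (asIso ((homologyFunctor B q).map ((t.truncLEι n).app C))).symm j (h q j hq))
  let e1 := AddEquiv.ofBijective _ hb
  let c : ((singleFunctor B 0).obj Z ⟶ ((t.truncLE n).obj C)⟦n⟧) →+ ((singleFunctor B 0).obj Z ⟶ C⟦n⟧) :=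
    { toFun := fun f => f ≫ ((t.truncLEι n).app C)⟦n⟧'
      map_zero' := zero_comp
      map_add' := fun _ _ => Preadditive.add_comp _ _ _ _ _ _ }
  have hc : Function.Bijective c := by
    constructor
    · rw [injective_iff_map_eq_zero]
      intro f hf
      obtain ⟨n', rfl⟩ : ∃ n' : ℤ, n = n' + 1 := ⟨n - 1, by lia⟩
      obtain ⟨g, hg⟩ := ExtTrunc.exact₁ _ _ hT n' f hf
      have h4 : g = 0 := by
        have : t.IsGE ((t.truncGE (n' + 1 + 1)).obj C) (n' + 1) :=
          t.isGE_of_ge _ (n' + 1) (n' + 1 + 1) (by lia)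
        exact hom_eq_zero_of_isGE n' Z _ this _
      rw [← hg, h4]
      exact zero_comp
    · intro f
      obtain ⟨g, hg⟩ := ExtTrunc.exact₂ _ _ hT n f (hom_eq_zero_of_isGE n Z _
        (inferInstance : t.IsGE ((t.truncGE (n + 1)).obj C) (n + 1)) _)
      exact ⟨g, hg⟩
  have h5 := DTrunc.isIso_homology_truncLE n n le_rfl C
  let e3 : Ext.{w} Z ((homologyFunctor B n).obj ((t.truncLE n).obj C)) 0 ≃+
      Ext.{w} Z ((homologyFunctor B n).obj C) 0 :=
    { toFun := fun x => x.comp (Ext.mk₀ ((homologyFunctor B n).map ((t.truncLEι n).app C))) (add_zero 0)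
      invFun := fun x => x.comp (Ext.mk₀ (inv ((homologyFunctor B n).map ((t.truncLEι n).app C)))) (add_zero 0)
      left_inv := fun x => by
        beta_reduce
        rw [Ext.comp_assoc_of_third_deg_zero, Ext.mk₀_comp_mk₀, IsIso.hom_inv_id, Ext.comp_mk₀_id]
      right_inv := fun x => by
        beta_reduce
        rw [Ext.comp_assoc_of_third_deg_zero, Ext.mk₀_comp_mk₀, IsIso.inv_hom_id, Ext.comp_mk₀_id]
      map_add' := fun x y => Ext.add_comp _ _ _ _ }
  exact ⟨(AddEquiv.ofBijective c hc).symm.trans (e1.trans e3)⟩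

section Homology

variable {Y : B} {T C : DerivedCategory B} (u : (singleFunctor B 0).obj Y ⟶ T) (g : T ⟶ C)
  (h : C ⟶ ((singleFunctor B 0).obj Y)⟦(1 : ℤ)⟧) (hT : Triangle.mk u g h ∈ distTriang (DerivedCategory B))

theorem isZero_H_single (Y : B) (q : ℤ) (hq : q ≠ 0) :
    IsZero ((homologyFunctor B q).obj ((singleFunctor B 0).obj Y)) := by
  rcases lt_or_gt_of_ne hq with h1 | h1
  · exact isZero_of_isGE _ 0 q h1
  · exact isZero_of_isLE _ 0 q h1

include hT in
theorem isIso_H_cone (q : ℤ) (hq : q ≠ 0) (hq' : q ≠ -1) : IsIso ((homologyFunctor B q).map g) := by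
  have h1 : Mono ((homologyFunctor B q).map g) :=
    (HomologySequence.mono_homologyMap_mor₂_iff (Triangle.mk u g h) hT q).2
      ((isZero_H_single Y q hq).eq_of_src _ _)
  have h2 : Epi ((homologyFunctor B q).map g) :=
    (HomologySequence.epi_homologyMap_mor₂_iff (Triangle.mk u g h) hT q (q + 1)).2
      ((isZero_H_single Y (q + 1) (by lia)).eq_of_tgt _ _)
  exact isIso_of_mono_of_epi _

include hT in
theorem nonempty_iso_H_cone_zero :
    Nonempty (cokernel ((homologyFunctor B 0).map u) ≅ (homologyFunctor B 0).obj C) := by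
  have h1 := HomologySequence.exact₂ (Triangle.mk u g h) hT 0
  have h2 : Epi ((homologyFunctor B 0).map g) :=
    (HomologySequence.epi_homologyMap_mor₂_iff (Triangle.mk u g h) hT 0 1).2
      ((isZero_H_single Y 1 (by lia)).eq_of_tgt _ _)
  have h2' : Epi ((homologyFunctor B 0).map (Triangle.mk u g h).mor₂) := h2
  have h3 := @ShortComplex.Exact.gIsCokernel _ _ _ _ _ h1 h2'
  exact ⟨IsColimit.coconePointUniqueUpToIso (cokernelIsCokernel ((homologyFunctor B 0).map u)) h3⟩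

include hT in
theorem nonempty_iso_H_cone_neg [hTG : T.IsGE 0] :
    Nonempty ((homologyFunctor B (-1)).obj C ≅ kernel ((homologyFunctor B 0).map u)) := by
  have h1 := HomologySequence.exact₁ (Triangle.mk u g h) hT (-1) 0
  have h2 : Mono (HomologySequence.δ (Triangle.mk u g h) (-1) 0) :=
    (HomologySequence.exact₃ (Triangle.mk u g h) hT (-1) 0).mono_g
      ((isZero_of_isGE T 0 (-1) (by lia)).eq_of_src _ _)
  have h3 := @ShortComplex.Exact.fIsKernel _ _ _ _ _ h1 h2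
  exact ⟨IsLimit.conePointUniqueUpToIso h3 (limit.isLimit (parallelPair ((homologyFunctor B 0).map u) 0))⟩

include hT in
theorem isGE_cone [hTG : T.IsGE 0] : C.IsGE (-1) := by
  rw [isGE_iff]
  intro q hq
  have := isIso_H_cone u g h hT q (by lia) (by lia)
  exact (isZero_of_isGE T 0 q (by lia)).of_iso (asIso ((homologyFunctor B q).map g)).symm

include hT in
/-- Acyclicity of the rows of the cone of `u : Y[0] ⟶ T`. -/
theorem ext_cone (n : ℕ) (Z : B) [hTG : T.IsGE 0]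
    (hK : ∀ j : ℕ, Subsingleton (Ext.{w} Z (kernel ((homologyFunctor B 0).map u)) j))
    (h0 : ∀ j : ℕ, (0 ≠ n ∨ j ≠ 0) → Subsingleton (Ext.{w} Z (cokernel ((homologyFunctor B 0).map u)) j))
    (h1 : ∀ q : ℕ, 1 ≤ q → ∀ j : ℕ, (q ≠ n ∨ j ≠ 0) →
      Subsingleton (Ext.{w} Z ((homologyFunctor B (q : ℤ)).obj T) j)) (q : ℤ) (j : ℕ)
    (hqj : q ≠ n ∨ j ≠ 0) : Subsingleton (Ext.{w} Z ((homologyFunctor B q).obj C) j) := by
  rcases lt_trichotomy q (-1) with hq | rfl | hq
  · have := isGE_cone u g h hT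
    exact subsingleton_ext_isZero (isZero_of_isGE C (-1) q hq) j
  · obtain ⟨e⟩ := nonempty_iso_H_cone_neg u g h hT
    exact subsingleton_ext_iso e.symm j (hK j)
  · rcases eq_or_ne q 0 with rfl | hq0
    · obtain ⟨e⟩ := nonempty_iso_H_cone_zero u g h hT
      exact subsingleton_ext_iso e j (h0 j (hqj.imp (fun h => by exact_mod_cast h) id))
    · obtain ⟨q, rfl⟩ := Int.eq_ofNat_of_zero_le (a := q) (by lia)
      have := isIso_H_cone u g h hT q (by lia) (by lia)
      exact subsingleton_ext_iso (asIso ((homologyFunctor B (q : ℤ)).map g)) j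
        (h1 q (by lia) j (hqj.imp (fun h => by exact_mod_cast h) id))

end Homology

section LES

variable {Y T C : DerivedCategory B} (u : Y ⟶ T) (g : T ⟶ C)
  (h : C ⟶ Y⟦(1 : ℤ)⟧) (hT : Triangle.mk u g h ∈ distTriang (DerivedCategory B))

/-- Postcomposition with `u[m]`. -/
noncomputable def post (Z : DerivedCategory B) {Y T : DerivedCategory B} (u : Y ⟶ T) (m : ℤ) : (Z ⟶ Y⟦m⟧) →+ (Z ⟶ T⟦m⟧) where
  toFun f := f ≫ u⟦m⟧'
  map_zero' := zero_comp
  map_add' _ _ := Preadditive.add_comp _ _ _ _ _ _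

theorem post_apply (Z : DerivedCategory B) {Y T : DerivedCategory B} (u : Y ⟶ T) (m : ℤ) (f : Z ⟶ Y⟦m⟧) :
    post Z u m f = f ≫ u⟦m⟧' := rfl

theorem post_zero_of_comp (Z : DerivedCategory B) {Y T C : DerivedCategory B} (u : Y ⟶ T) (g : T ⟶ C)
    (hug : u ≫ g = 0) (m : ℤ) (f : Z ⟶ Y⟦m⟧) : post Z g m (post Z u m f) = 0 := by
  rw [post_apply, post_apply, Category.assoc, ← Functor.map_comp, hug, Functor.map_zero, comp_zero]

/-- The connecting map `Hom(Z, C[m]) ⟶ Hom(Z, Y[m+1])`. -/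
noncomputable def conn (Z : DerivedCategory B) {Y C : DerivedCategory B} (h : C ⟶ Y⟦(1 : ℤ)⟧) (m : ℤ) :
    (Z ⟶ C⟦m⟧) →+ (Z ⟶ Y⟦m + 1⟧) where
  toFun f := f ≫ h⟦m⟧' ≫ (shiftFunctorAdd' (DerivedCategory B) 1 m (m + 1) (by lia)).inv.app Y
  map_zero' := zero_comp
  map_add' _ _ := Preadditive.add_comp _ _ _ _ _ _

theorem conn_apply (Z : DerivedCategory B) {Y C : DerivedCategory B} (h : C ⟶ Y⟦(1 : ℤ)⟧) (m : ℤ)
    (f : Z ⟶ C⟦m⟧) : conn Z h m f =
      f ≫ h⟦m⟧' ≫ (shiftFunctorAdd' (DerivedCategory B) 1 m (m + 1) (by lia)).inv.app Y := rfl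

include hT in
theorem conn_post (Z : DerivedCategory B) (m : ℤ) (f : Z ⟶ T⟦m⟧) : conn Z h m (post Z g m f) = 0 := by
  rw [conn_apply, post_apply, Category.assoc]
  have h1 : g ≫ h = 0 := comp_distTriang_mor_zero₂₃ _ hT
  rw [← Functor.map_comp_assoc, h1, Functor.map_zero, zero_comp, comp_zero]

include hT in
theorem post_conn (Z : DerivedCategory B) (m : ℤ) (f : Z ⟶ C⟦m⟧) : post Z u (m + 1) (conn Z h m f) = 0 := by
  rw [conn_apply, post_apply, Category.assoc, Category.assoc]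
  have h1 : h ≫ u⟦(1 : ℤ)⟧' = 0 := comp_distTriang_mor_zero₃₁ _ hT
  have h2 := (shiftFunctorAdd' (DerivedCategory B) 1 m (m + 1) (by lia)).inv.naturality u
  rw [← h2]
  dsimp
  rw [← Functor.map_comp_assoc, h1, Functor.map_zero, zero_comp, comp_zero]

include hT in
theorem exists_post₂ (Z : DerivedCategory B) (m : ℤ) (f : Z ⟶ T⟦m⟧) (hf : post Z g m f = 0) :
    ∃ y : Z ⟶ Y⟦m⟧, post Z u m y = f := ExtTrunc.exact₂ Z _ hT m f hf

include hT in
theorem exists_post₃ (Z : DerivedCategory B) (m : ℤ) (f : Z ⟶ C⟦m⟧) (hf : conn Z h m f = 0) :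
    ∃ y : Z ⟶ T⟦m⟧, post Z g m y = f := ExtTrunc.exact₃ Z _ hT m f hf

include hT in
theorem exists_conn (Z : DerivedCategory B) (m : ℤ) (f : Z ⟶ Y⟦m + 1⟧) (hf : post Z u (m + 1) f = 0) :
    ∃ y : Z ⟶ C⟦m⟧, conn Z h m y = f := ExtTrunc.exact₁ Z _ hT m f hf

variable [hC : C.IsGE (-1)] (n : ℕ) (Z : B)
  (hv : ∀ (q : ℤ) (j : ℕ), (q ≠ n ∨ j ≠ 0) → Subsingleton (Ext.{w} Z ((homologyFunctor B q).obj C) j))

include hC hv in
theorem eq_zero_of_ne (m : ℤ) (hm : m ≠ n) (f : (singleFunctor B 0).obj Z ⟶ C⟦m⟧) : f = 0 :=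
  hom_eq_zero.{w} (-1) m Z C (fun q j hqj => hv q j (by
    by_contra hh
    rw [not_or, not_not, not_not] at hh
    obtain ⟨rfl, rfl⟩ := hh
    exact hm (by simpa using hqj.symm))) f

include hT hC hv in
theorem post_injective (m : ℤ) (hm : m ≠ n + 1) : Function.Injective (post ((singleFunctor B 0).obj Z) u m) := by
  rw [injective_iff_map_eq_zero]
  intro f hf
  obtain ⟨m, rfl⟩ : ∃ m' : ℤ, m = m' + 1 := ⟨m - 1, by lia⟩
  obtain ⟨y, hy⟩ := exists_conn u g h hT _ m f hf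
  rw [← hy, eq_zero_of_ne n Z hv m (by lia) y, map_zero]

include hT hC hv in
theorem post_surjective (m : ℤ) (hm : m ≠ n) : Function.Surjective (post ((singleFunctor B 0).obj Z) u m) :=
  fun f => exists_post₂ u g h hT _ m f (eq_zero_of_ne n Z hv m hm _)

include hT hC hv in
/-- The long exact sequence around degrees `n`, `n + 1`. -/
theorem exists_maps : ∃ (φ : ((singleFunctor B 0).obj Z ⟶ T⟦(n : ℤ)⟧) →+
      Ext.{w} Z ((homologyFunctor B (n : ℤ)).obj C) 0)
    (ψ : Ext.{w} Z ((homologyFunctor B (n : ℤ)).obj C) 0 →+ ((singleFunctor B 0).obj Z ⟶ Y⟦(n : ℤ) + 1⟧)),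
    φ.ker = (post ((singleFunctor B 0).obj Z) u n).range ∧ ψ.ker = φ.range ∧
      (post ((singleFunctor B 0).obj Z) u (n + 1)).ker = ψ.range := by
  obtain ⟨e⟩ := nonempty_equiv.{w} (-1) n Z C (fun q j hq => hv q j (Or.inl hq.ne))
  refine ⟨e.toAddMonoidHom.comp (post _ g n), (conn _ h n).comp e.symm.toAddMonoidHom, ?_, ?_, ?_⟩
  · ext x
    simp only [AddMonoidHom.mem_ker, AddMonoidHom.mem_range, AddMonoidHom.comp_apply]
    constructor
    · intro hx
      exact exists_post₂ u g h hT _ _ x ((AddEquiv.map_eq_zero_iff e).1 hx)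
    · rintro ⟨y, rfl⟩
      rw [post_zero_of_comp _ u g (comp_distTriang_mor_zero₁₂ _ hT), map_zero]
  · ext x
    simp only [AddMonoidHom.mem_ker, AddMonoidHom.mem_range, AddMonoidHom.comp_apply]
    constructor
    · intro hx
      obtain ⟨y, hy⟩ := exists_post₃ u g h hT _ _ _ hx
      exact ⟨y, (congrArg e hy).trans (e.apply_symm_apply x)⟩
    · rintro ⟨y, rfl⟩
      refine (congrArg (conn _ h n) (e.symm_apply_apply _)).trans ?_
      exact conn_post u g h hT _ _ _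
  · ext x
    simp only [AddMonoidHom.mem_ker, AddMonoidHom.mem_range, AddMonoidHom.comp_apply]
    constructor
    · intro hx
      obtain ⟨y, hy⟩ := exists_conn u g h hT _ _ x hx
      exact ⟨e y, (congrArg (conn _ h n) (e.symm_apply_apply _)).trans hy⟩
    · rintro ⟨y, rfl⟩
      exact post_conn u g h hT _ _ _

end LES

end Groth.Agent.Vancyc.H679.ConeLES
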