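import Groth.Agent.Vancyc.H679.AdjLES
import Groth.Agent.Sga4B.TwoRowEt

/-!
# The long exact sequence of `F ⟶ Rg_* g^* F` in étale cohomology, one non-acyclic row
-/

set_option autoImplicit false
universe u
open CategoryTheory CategoryTheory.Limits CategoryTheory.Abelian AlgebraicGeometry Opposite
open Groth.Agent.Etrest

namespace Groth.Agent.Vancyc.H679.EtLES

attribute [local instance 10000] EtCoh.H._proof_1 EtCoh.Rpush._proof_2
attribute [local instance 10000] Groth.Agent.Sga4B.TwoRowEt.he Groth.Agent.Sga4B.TwoRowEt.hinj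
attribute [local instance 10000] Groth.Agent.Sga4B.TwoRowEt.hPullAdd Groth.Agent.Sga4B.TwoRowEt.hPullPFC
attribute [local instance 10000] Groth.Agent.Sga4B.TwoRowEt.hasKInj

theorem hPushPFL {X Y : Scheme.{u}} (f : X ⟶ Y) : PreservesFiniteLimits (EtCoh.push f) := by
  have : PreservesLimitsOfSize.{0, 0} (EtCoh.push f) := (EtCoh.pullPushAdj f).rightAdjoint_preservesLimits
  exact PreservesLimitsOfSize.preservesFiniteLimits _

/-- Precomposition with `ℤ_X ≅ g^* ℤ_Y`. -/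
noncomputable def preC {X Y : Scheme.{u}} (g : X ⟶ Y) (G : EtCoh.Ab X) (n : ℕ) :
    Ext.{u + 1} ((EtCoh.pull g).obj (EtCoh.const Y ℤ)) G n ≃+ EtCoh.H X G n :=
  (Groth.Agent.Sga4B.TwoRowEt.cmp g G n).symm

theorem Hpull_eq {X Y : Scheme.{u}} (g : X ⟶ Y) [PreservesFiniteLimits (EtCoh.pull g)] (F : EtCoh.Ab Y) (n : ℕ)
    (x : EtCoh.H Y F n) : EtCore.Hpull g F n x = preC g ((EtCoh.pull g).obj F) n
      (((EtCoh.pull g).mapExtAddHom (EtCoh.const Y ℤ) F n :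
        Ext.{u + 1} (EtCoh.const Y ℤ) F n →+ Ext.{u + 1} _ _ n) x) := rfl

variable {X Y : Scheme.{u}} (g : X ⟶ Y) [PreservesFiniteLimits (EtCoh.pull g)] (F : EtCoh.Ab Y)

theorem main (n : ℕ)
    (hK : ∀ j : ℕ, Subsingleton (EtCoh.H Y (kernel ((EtCoh.pullPushAdj g).unit.app F)) j))
    (h0 : ∀ j : ℕ, (0 ≠ n ∨ j ≠ 0) → Subsingleton (EtCoh.H Y (cokernel ((EtCoh.pullPushAdj g).unit.app F)) j))
    (h1 : ∀ q : ℕ, 1 ≤ q → ∀ j : ℕ, (q ≠ n ∨ j ≠ 0) →
      Subsingleton (EtCoh.H Y ((EtCoh.Rpush g q).obj ((EtCoh.pull g).obj F)) j)) :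
    (∀ m : ℕ, m ≠ n + 1 → Function.Injective (EtCore.Hpull g F m)) ∧
    (∀ m : ℕ, m ≠ n → Function.Surjective (EtCore.Hpull g F m)) ∧
    ∃ (V : EtCoh.Ab Y) (_ : n = 0 → Nonempty (V ≅ cokernel ((EtCoh.pullPushAdj g).unit.app F)))
      (_ : 1 ≤ n → Nonempty (V ≅ (EtCoh.Rpush g n).obj ((EtCoh.pull g).obj F)))
      (φ : EtCoh.H X ((EtCoh.pull g).obj F) n →+ EtCoh.H Y V 0) (ψ : EtCoh.H Y V 0 →+ EtCoh.H Y F (n + 1)),
      φ.ker = (EtCore.Hpull g F n).range ∧ ψ.ker = φ.range ∧ (EtCore.Hpull g F (n + 1)).ker = ψ.range := by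
  have hp := hPushPFL g
  obtain ⟨a1, a2, V, hV0, hV1, φ, ψ, a3, a4, a5⟩ :=
    AdjLES.main.{u + 1, u + 1} (EtCoh.pullPushAdj g) n (EtCoh.const Y ℤ) F hK h0 h1
  refine ⟨fun m hm => ?_, fun m hm => ?_, V, hV0, hV1, φ.comp (preC g _ n).symm.toAddMonoidHom, ψ, ?_, ?_, ?_⟩
  · exact (preC g _ m).injective.comp (a1 m hm)
  · exact (preC g _ m).surjective.comp (a2 m hm)
  · ext x
    have h5 := SetLike.ext_iff.1 a3 ((preC g _ n).symm x)
    simp only [AddMonoidHom.mem_ker, AddMonoidHom.mem_range] at h5 ⊢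
    refine h5.trans ⟨?_, ?_⟩
    · rintro ⟨y, hy⟩
      exact ⟨y, (Hpull_eq g F n y).trans ((congrArg (preC g _ n) hy).trans ((preC g _ n).apply_symm_apply x))⟩
    · rintro ⟨y, hy⟩
      refine ⟨y, ?_⟩
      rw [← hy]
      exact ((preC g _ n).symm_apply_apply _).symm
  · ext x
    have h5 := SetLike.ext_iff.1 a4 x
    simp only [AddMonoidHom.mem_ker, AddMonoidHom.mem_range, AddMonoidHom.comp_apply] at h5 ⊢
    refine h5.trans ⟨?_, ?_⟩
    · rintro ⟨y, hy⟩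
      exact ⟨preC g _ n y, (congrArg φ ((preC g _ n).symm_apply_apply y)).trans hy⟩
    · rintro ⟨y, hy⟩
      exact ⟨_, hy⟩
  · ext x
    have h5 := SetLike.ext_iff.1 a5 x
    simp only [AddMonoidHom.mem_ker, AddMonoidHom.mem_range] at h5 ⊢
    refine Iff.trans ?_ h5
    rw [Hpull_eq]
    exact AddEquiv.map_eq_zero_iff _

end Groth.Agent.Vancyc.H679.EtLES
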