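import Groth.Agent.Vancyc.H679.AdjLES
import Groth.Agent.Vancyc.H679.EtLES

/-!
# The long exact sequence of a map whose cone has all rows acyclic in positive degrees

`multi`: abstract version, comparing `Ext^m(Z, Y)` and `Ext^m(LZ, LY)`; `etMulti`: étale cohomology.
-/

set_option autoImplicit false
set_option linter.unusedSectionVars false
universe w₁ w₂ w w' v v' u u'
open CategoryTheory CategoryTheory.Limits CategoryTheory.Pretriangulated DerivedCategory Opposite
open CategoryTheory.Abelian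

noncomputable section
namespace Groth.Agent.Vancyc.H679.ConeMulti

open Groth.Agent.Sga4B DerivedCategory.TStructure ConeLES AdjLES

section

variable {B : Type u} [Category.{v} B] [Abelian B] [HasDerivedCategory.{w'} B] [HasExt.{w} B]

/-- `Hom(Z[0], C[n]) ≃ Hom(Z, H^n C)` if `Ext^j(Z, H^q C) = 0` for `q < n`, `j ≥ 1`. -/
theorem nonempty_equiv (a n : ℤ) (Z : B) (C : DerivedCategory B) [hC : C.IsGE a]
    (h : ∀ (q : ℤ) (j : ℕ), q < n → 1 ≤ j → Subsingleton (Ext.{w} Z ((homologyFunctor B q).obj C) j)) :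
    Nonempty (((singleFunctor B 0).obj Z ⟶ C⟦n⟧) ≃+ Ext.{w} Z ((homologyFunctor B n).obj C) 0) := by
  have hT := t.triangleLEGE_distinguished n (n + 1) rfl C
  have i1 : ((t.truncLE n).obj C).IsLE n := (inferInstance : t.IsLE ((t.truncLE n).obj C) n)
  have i2 : ((t.truncLE n).obj C).IsGE a := by
    have : t.IsGE C a := hC
    exact (inferInstance : t.IsGE ((t.truncLE n).obj C) a)
  have hb := ExtTrunc.hi_bijective.{w} a n n 0 (by simp) Z ((t.truncLE n).obj C) (fun q j _ hq hj => by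
    have h3 := DTrunc.isIso_homology_truncLE n q hq.le C
    exact subsingleton_ext_iso (asIso ((homologyFunctor B q).map ((t.truncLEι n).app C))).symm j
      (h q j hq (by lia)))
  let e1 := AddEquiv.ofBijective _ hb
  let c : ((singleFunctor B 0).obj Z ⟶ ((t.truncLE n).obj C)⟦n⟧) →+ ((singleFunctor B 0).obj Z ⟶ C⟦n⟧) :=
    { toFun := fun f => f ≫ ((t.truncLEι n).app C)⟦n⟧'
      map_zero' := zero_comp
      map_add' := fun _ _ => Preadditive.add_comp _ _ _ _ _ _ }
  have hc : Function.Bijective c := by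
    constructor
    · rw [injective_iff_map_eq_zero]
      intro f hf
      obtain ⟨n', rfl⟩ : ∃ n' : ℤ, n = n' + 1 := ⟨n - 1, by lia⟩
      obtain ⟨g, hg⟩ := ExtTrunc.exact₁ _ _ hT n' f hf
      have h4 : g = 0 := by
        have : t.IsGE ((t.truncGE (n' + 1 + 1)).obj C) (n' + 1) :=
          t.isGE_of_ge _ (n' + 1) (n' + 1 + 1) (by lia)
        exact hom_eq_zero_of_isGE n' Z _ this _
      rw [← hg, h4]
      exact zero_comp
    · intro f
      obtain ⟨g, hg⟩ := ExtTrunc.exact₂ _ _ hT n f (hom_eq_zero_of_isGE n Z _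
        (inferInstance : t.IsGE ((t.truncGE (n + 1)).obj C) (n + 1)) _)
      exact ⟨g, hg⟩
  have h5 := DTrunc.isIso_homology_truncLE n n le_rfl C
  let e3 : Ext.{w} Z ((homologyFunctor B n).obj ((t.truncLE n).obj C)) 0 ≃+
      Ext.{w} Z ((homologyFunctor B n).obj C) 0 :=
    { toFun := fun x => x.comp (Ext.mk₀ ((homologyFunctor B n).map ((t.truncLEι n).app C))) (add_zero 0)
      invFun := fun x => x.comp (Ext.mk₀ (inv ((homologyFunctor B n).map ((t.truncLEι n).app C)))) (add_zero 0)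
      left_inv := fun x => by
        beta_reduce
        rw [Ext.comp_assoc_of_third_deg_zero, Ext.mk₀_comp_mk₀, IsIso.hom_inv_id, Ext.comp_mk₀_id]
      right_inv := fun x => by
        beta_reduce
        rw [Ext.comp_assoc_of_third_deg_zero, Ext.mk₀_comp_mk₀, IsIso.inv_hom_id, Ext.comp_mk₀_id]
      map_add' := fun x y => Ext.add_comp _ _ _ _ }
  exact ⟨(AddEquiv.ofBijective c hc).symm.trans (e1.trans e3)⟩

section Homology

variable {Y : B} {T C : DerivedCategory B} (u : (singleFunctor B 0).obj Y ⟶ T) (g : T ⟶ C)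
  (h : C ⟶ ((singleFunctor B 0).obj Y)⟦(1 : ℤ)⟧) (hT : Triangle.mk u g h ∈ distTriang (DerivedCategory B))

include hT in
theorem ext_cone (Z : B) [hTG : T.IsGE 0]
    (hK : ∀ j : ℕ, 1 ≤ j → Subsingleton (Ext.{w} Z (kernel ((homologyFunctor B 0).map u)) j))
    (h0 : ∀ j : ℕ, 1 ≤ j → Subsingleton (Ext.{w} Z (cokernel ((homologyFunctor B 0).map u)) j))
    (h1 : ∀ q : ℕ, 1 ≤ q → ∀ j : ℕ, 1 ≤ j →
      Subsingleton (Ext.{w} Z ((homologyFunctor B (q : ℤ)).obj T) j)) (q : ℤ) (j : ℕ)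
    (hqj : 1 ≤ j) : Subsingleton (Ext.{w} Z ((homologyFunctor B q).obj C) j) := by
  rcases lt_trichotomy q (-1) with hq | rfl | hq
  · have := isGE_cone u g h hT
    exact subsingleton_ext_isZero (isZero_of_isGE C (-1) q hq) j
  · obtain ⟨e⟩ := nonempty_iso_H_cone_neg u g h hT
    exact subsingleton_ext_iso e.symm j (hK j hqj)
  · rcases eq_or_ne q 0 with rfl | hq0
    · obtain ⟨e⟩ := nonempty_iso_H_cone_zero u g h hT
      exact subsingleton_ext_iso e j (h0 j hqj)
    · obtain ⟨q, rfl⟩ := Int.eq_ofNat_of_zero_le (a := q) (by lia)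
      have := isIso_H_cone u g h hT q (by lia) (by lia)
      exact subsingleton_ext_iso (asIso ((homologyFunctor B (q : ℤ)).map g)) j
        (h1 q (by lia) j hqj)

end Homology

section LES

variable {Y T C : DerivedCategory B} (u : Y ⟶ T) (g : T ⟶ C)
  (h : C ⟶ Y⟦(1 : ℤ)⟧) (hT : Triangle.mk u g h ∈ distTriang (DerivedCategory B))
variable [hC : C.IsGE (-1)] (n : ℕ) (Z : B)
  (hv : ∀ (q : ℤ) (j : ℕ), 1 ≤ j → Subsingleton (Ext.{w} Z ((homologyFunctor B q).obj C) j))

include hT hC hv in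
/-- The long exact sequence around degrees `n`, `n + 1`. -/
theorem exists_maps : ∃ (φ : ((singleFunctor B 0).obj Z ⟶ T⟦(n : ℤ)⟧) →+
      Ext.{w} Z ((homologyFunctor B (n : ℤ)).obj C) 0)
    (ψ : Ext.{w} Z ((homologyFunctor B (n : ℤ)).obj C) 0 →+ ((singleFunctor B 0).obj Z ⟶ Y⟦(n : ℤ) + 1⟧)),
    φ.ker = (post ((singleFunctor B 0).obj Z) u n).range ∧ ψ.ker = φ.range ∧
      (post ((singleFunctor B 0).obj Z) u (n + 1)).ker = ψ.range := by
  obtain ⟨e⟩ := nonempty_equiv.{w} (-1) n Z C (fun q j _ hj => hv q j hj)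
  refine ⟨e.toAddMonoidHom.comp (post _ g n), (conn _ h n).comp e.symm.toAddMonoidHom, ?_, ?_, ?_⟩
  · ext x
    simp only [AddMonoidHom.mem_ker, AddMonoidHom.mem_range, AddMonoidHom.comp_apply]
    constructor
    · intro hx
      exact exists_post₂ u g h hT _ _ x ((AddEquiv.map_eq_zero_iff e).1 hx)
    · rintro ⟨y, rfl⟩
      rw [post_zero_of_comp _ u g (comp_distTriang_mor_zero₁₂ _ hT), map_zero]
  · ext x
    simp only [AddMonoidHom.mem_ker, AddMonoidHom.mem_range, AddMonoidHom.comp_apply]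
    constructor
    · intro hx
      obtain ⟨y, hy⟩ := exists_post₃ u g h hT _ _ _ hx
      exact ⟨y, (congrArg e hy).trans (e.apply_symm_apply x)⟩
    · rintro ⟨y, rfl⟩
      refine (congrArg (conn _ h n) (e.symm_apply_apply _)).trans ?_
      exact conn_post u g h hT _ _ _
  · ext x
    simp only [AddMonoidHom.mem_ker, AddMonoidHom.mem_range, AddMonoidHom.comp_apply]
    constructor
    · intro hx
      obtain ⟨y, hy⟩ := exists_conn u g h hT _ _ x hx
      exact ⟨e y, (congrArg (conn _ h n) (e.symm_apply_apply _)).trans hy⟩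
    · rintro ⟨y, rfl⟩
      exact post_conn u g h hT _ _ _

end LES

end

section Main

open Groth.Agent.Etrest.RDer3 Groth.Agent.Etrest.RDer4

variable {B : Type u} [Category.{v} B] [Abelian B] {A : Type u'} [Category.{v'} A] [Abelian A]
  [HasExt.{w} B] [HasExt.{w'} A] [HasKInj A] [EnoughInjectives A] [HasInjectiveResolutions A]
  {L : B ⥤ A} [L.Additive] [PreservesFiniteLimits L] [PreservesFiniteColimits L]
  {G : A ⥤ B} [G.Additive] [PreservesFiniteLimits G] (adj : L ⊣ G)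

/-- The long exact sequence when all rows are acyclic. -/
theorem multi (Z Y : B)
    (hK : ∀ j : ℕ, 1 ≤ j → Subsingleton (Ext.{w} Z (kernel (adj.unit.app Y)) j))
    (h0 : ∀ j : ℕ, 1 ≤ j → Subsingleton (Ext.{w} Z (cokernel (adj.unit.app Y)) j))
    (h1 : ∀ q : ℕ, 1 ≤ q → ∀ j : ℕ, 1 ≤ j →
      Subsingleton (Ext.{w} Z ((G.rightDerived q).obj (L.obj Y)) j)) :
    ∃ (V : ℕ → B) (_ : Nonempty (V 0 ≅ cokernel (adj.unit.app Y)))
      (_ : ∀ n, 1 ≤ n → Nonempty (V n ≅ (G.rightDerived n).obj (L.obj Y)))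
      (φ : ∀ n : ℕ, Ext.{w'} (L.obj Z) (L.obj Y) n →+ Ext.{w} Z (V n) 0)
      (ψ : ∀ n : ℕ, Ext.{w} Z (V n) 0 →+ Ext.{w} Z Y (n + 1)),
      (∀ n : ℕ, (φ n).ker = (L.mapExtAddHom Z Y n : Ext.{w} Z Y n →+ Ext.{w'} _ _ n).range) ∧
      (∀ n : ℕ, (ψ n).ker = (φ n).range) ∧
      (∀ n : ℕ, (L.mapExtAddHom Z Y (n + 1) : Ext.{w} Z Y (n + 1) →+ Ext.{w'} _ _ (n + 1)).ker = (ψ n).range) := by
  let := HasDerivedCategory.standard B
  let := HasDerivedCategory.standard A
  have hTG := isGE_T (L := L) (G := G) Y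
  let u : (singleFunctor B 0).obj Y ⟶ (TR G).obj (L.mapDerivedCategory.obj ((singleFunctor B 0).obj Y)) :=
    (dAdj adj).unit.app ((singleFunctor B 0).obj Y)
  obtain ⟨C, g, h, hT⟩ := distinguished_cocone_triangle u
  let e := arrowIsoSingle adj Y
  let e' : Arrow.mk ((homologyFunctor B 0).map u) ≅ Arrow.mk (adj.unit.app Y) := e
  let ek : kernel ((homologyFunctor B 0).map u) ≅ kernel (adj.unit.app Y) :=
    kernel.mapIso _ _ (Arrow.leftFunc.mapIso e') (Arrow.rightFunc.mapIso e') e'.hom.w.symm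
  let ec : cokernel ((homologyFunctor B 0).map u) ≅ cokernel (adj.unit.app Y) :=
    cokernel.mapIso _ _ (Arrow.leftFunc.mapIso e') (Arrow.rightFunc.mapIso e') e'.hom.w.symm
  have hC := isGE_cone u g h hT
  have hv := ext_cone.{w} u g h hT Z (fun j hj => subsingleton_ext_iso ek.symm j (hK j hj))
    (fun j hj => subsingleton_ext_iso ec.symm j (h0 j hj))
    (fun q hq j hj => subsingleton_ext_iso (homologyIso (L := L) (G := G) Y q).symm j (h1 q hq j hj))
  choose E hE using fun m : ℕ => exists_eqv.{_, _, w, w'} (dAdj adj) Z Y m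
  have hmap : ∀ (m : ℕ) (x : Ext.{w} Z Y m), (L.mapExtAddHom Z Y m : Ext.{w} Z Y m →+ Ext.{w'} _ _ m) x =
      E m (post ((singleFunctor B 0).obj Z) u m (Ext.homAddEquiv x)) := fun m x => (hE m x).symm
  choose φ ψ h2 h3 h4 using fun n : ℕ => exists_maps.{w} u g h hT n Z hv
  refine ⟨fun n => (homologyFunctor B (n : ℤ)).obj C, ?_, ?_, fun n => (φ n).comp (E n).symm.toAddMonoidHom,
    fun n => (Ext.homAddEquiv (X := Z) (Y := Y) (n := n + 1)).symm.toAddMonoidHom.comp (ψ n), ?_, ?_, ?_⟩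
  · obtain ⟨e1⟩ := nonempty_iso_H_cone_zero u g h hT
    exact ⟨e1.symm ≪≫ ec⟩
  · intro n hn
    have := isIso_H_cone u g h hT n (by lia) (by lia)
    exact ⟨(asIso ((homologyFunctor B (n : ℤ)).map g)).symm ≪≫ homologyIso (L := L) (G := G) Y n⟩
  · intro n
    ext x
    have h5 := SetLike.ext_iff.1 (h2 n) ((E n).symm x)
    simp only [AddMonoidHom.mem_ker, AddMonoidHom.mem_range] at h5 ⊢
    refine h5.trans ⟨?_, ?_⟩
    · rintro ⟨y, hy⟩
      refine ⟨Ext.homAddEquiv.symm y, ?_⟩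
      rw [hmap, AddEquiv.apply_symm_apply, hy, AddEquiv.apply_symm_apply]
    · rintro ⟨y, hy⟩
      refine ⟨Ext.homAddEquiv y, ?_⟩
      rw [← hy, hmap, AddEquiv.symm_apply_apply]
  · intro n
    ext x
    have h5 := SetLike.ext_iff.1 (h3 n) x
    simp only [AddMonoidHom.mem_ker, AddMonoidHom.mem_range, AddMonoidHom.comp_apply] at h5 ⊢
    refine Iff.trans ?_ (h5.trans ⟨?_, ?_⟩)
    · exact AddEquiv.map_eq_zero_iff _
    · rintro ⟨y, hy⟩
      exact ⟨E n y, (congrArg (φ n) ((E n).symm_apply_apply y)).trans hy⟩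
    · rintro ⟨y, hy⟩
      exact ⟨_, hy⟩
  · intro n
    ext x
    have h5 := SetLike.ext_iff.1 (h4 n) (Ext.homAddEquiv x)
    simp only [AddMonoidHom.mem_ker, AddMonoidHom.mem_range, AddMonoidHom.comp_apply] at h5 ⊢
    refine Iff.trans ?_ (h5.trans ⟨?_, ?_⟩)
    · rw [hmap]
      exact AddEquiv.map_eq_zero_iff _
    · rintro ⟨y, hy⟩
      exact ⟨y, (congrArg Ext.homAddEquiv.symm hy).trans (AddEquiv.symm_apply_apply _ _)⟩
    · rintro ⟨y, hy⟩
      exact ⟨y, (AddEquiv.apply_symm_apply Ext.homAddEquiv _).symm.trans (congrArg Ext.homAddEquiv hy)⟩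

include adj in
/-- The beginning of the long exact sequence: the kernel in degree `0`. -/
theorem ker_zero (Z Y : B) : ∃ κ : Ext.{w} Z (kernel (adj.unit.app Y)) 0 →+ Ext.{w} Z Y 0,
    Function.Injective κ ∧ (L.mapExtAddHom Z Y 0 : Ext.{w} Z Y 0 →+ Ext.{w'} _ _ 0).ker = κ.range := by
  let κ : Ext.{w} Z (kernel (adj.unit.app Y)) 0 →+ Ext.{w} Z Y 0 :=
    { toFun := fun x => x.comp (Ext.mk₀ (kernel.ι (adj.unit.app Y))) (add_zero 0)
      map_zero' := Ext.zero_comp _ _ _ _ _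
      map_add' := fun x y => Ext.add_comp _ _ _ _ }
  have hκ : ∀ f : Z ⟶ kernel (adj.unit.app Y), κ (Ext.mk₀ f) = Ext.mk₀ (f ≫ kernel.ι _) := fun f =>
    Ext.mk₀_comp_mk₀ _ _
  refine ⟨κ, ?_, ?_⟩
  · rw [injective_iff_map_eq_zero]
    intro x hx
    obtain ⟨f, rfl⟩ := Ext.homEquiv₀.symm.surjective x
    have h1 : κ (Ext.mk₀ f) = 0 := hx
    rw [hκ, ← Ext.mk₀_zero] at h1
    have h2 : f ≫ kernel.ι (adj.unit.app Y) = 0 := Ext.homEquiv₀.symm.injective h1
    have h3 : f = 0 := by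
      rw [← cancel_mono (kernel.ι (adj.unit.app Y)), h2, zero_comp]
    rw [h3]
    exact Ext.mk₀_zero _ _
  · ext x
    rw [AddMonoidHom.mem_ker, AddMonoidHom.mem_range]
    obtain ⟨f, rfl⟩ := Ext.homEquiv₀.symm.surjective x
    have h4 : (L.mapExtAddHom Z Y 0 : Ext.{w} Z Y 0 →+ Ext.{w'} _ _ 0) (Ext.mk₀ f) = Ext.mk₀ (L.map f) :=
      Ext.mapExactFunctor_mk₀ _ _
    have h5 : (L.mapExtAddHom Z Y 0 : Ext.{w} Z Y 0 →+ Ext.{w'} _ _ 0) (Ext.mk₀ f) = 0 ↔
        f ≫ adj.unit.app Y = 0 := by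
      rw [h4, ← Ext.mk₀_zero]
      constructor
      · intro h6
        have h7 : L.map f = 0 := Ext.homEquiv₀.symm.injective h6
        have h8 := adj.unit.naturality f
        have h9 : f ≫ adj.unit.app Y = adj.unit.app Z ≫ G.map (L.map f) := h8
        rw [h9, h7, Functor.map_zero, comp_zero]
      · intro h6
        have h7 : L.map f = 0 := by
          apply (adj.homEquiv _ _).injective
          rw [adj.homEquiv_unit, adj.homEquiv_unit, Functor.map_zero, comp_zero]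
          exact (adj.unit.naturality f).symm.trans h6
        rw [h7]
    refine h5.trans ⟨fun h6 => ⟨Ext.mk₀ (kernel.lift _ f h6), ?_⟩, ?_⟩
    · rw [hκ, kernel.lift_ι]
      rfl
    · rintro ⟨y, hy⟩
      obtain ⟨f', rfl⟩ := Ext.homEquiv₀.symm.surjective y
      have h6 : κ (Ext.mk₀ f') = Ext.mk₀ f := hy
      rw [hκ] at h6
      have h7 : f' ≫ kernel.ι (adj.unit.app Y) = f := Ext.homEquiv₀.symm.injective h6
      rw [← h7, Category.assoc, kernel.condition, comp_zero]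

end Main

end Groth.Agent.Vancyc.H679.ConeMulti
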