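import Groth.Agent.Vancyc.H679.ConeMulti

/-!
# The long exact sequence with a map to the rows that is natural in the first variable
-/

set_option autoImplicit false
set_option linter.unusedSectionVars false
universe w₁ w₂ w w' v v' u u'
open CategoryTheory CategoryTheory.Limits CategoryTheory.Pretriangulated DerivedCategory Opposite
open CategoryTheory.Abelian

noncomputable section
namespace Groth.Agent.Vancyc.H679.ConeNat

open Groth.Agent.Sga4B DerivedCategory.TStructure ConeLES AdjLES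

section

variable {B : Type u} [Category.{v} B] [Abelian B] [HasDerivedCategory.{w'} B] [HasExt.{w} B]

/-- Composition with `τ_{≤ n} C ⟶ C`. -/
def tc (n : ℤ) (Z : B) (C : DerivedCategory B) :
    ((singleFunctor B 0).obj Z ⟶ ((t.truncLE n).obj C)⟦n⟧) →+ ((singleFunctor B 0).obj Z ⟶ C⟦n⟧) where
  toFun := fun f => f ≫ ((t.truncLEι n).app C)⟦n⟧'
  map_zero' := zero_comp
  map_add' := fun _ _ => Preadditive.add_comp _ _ _ _ _ _

theorem tc_apply (n : ℤ) (Z : B) (C : DerivedCategory B)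
    (f : (singleFunctor B 0).obj Z ⟶ ((t.truncLE n).obj C)⟦n⟧) :
    tc n Z C f = f ≫ ((t.truncLEι n).app C)⟦n⟧' := rfl

theorem tc_bijective (n : ℤ) (Z : B) (C : DerivedCategory B) : Function.Bijective (tc n Z C) := by
  have hT := t.triangleLEGE_distinguished n (n + 1) rfl C
  constructor
  · rw [injective_iff_map_eq_zero]
    intro f hf
    obtain ⟨n', rfl⟩ : ∃ n' : ℤ, n = n' + 1 := ⟨n - 1, by lia⟩
    obtain ⟨g, hg⟩ := ExtTrunc.exact₁ _ _ hT n' f hf
    have h4 : g = 0 := by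
      have : t.IsGE ((t.truncGE (n' + 1 + 1)).obj C) (n' + 1) :=
        t.isGE_of_ge _ (n' + 1) (n' + 1 + 1) (by lia)
      exact hom_eq_zero_of_isGE n' Z _ this _
    rw [← hg, h4]
    exact zero_comp
  · intro f
    obtain ⟨g, hg⟩ := ExtTrunc.exact₂ _ _ hT n f (hom_eq_zero_of_isGE n Z _
      (inferInstance : t.IsGE ((t.truncGE (n + 1)).obj C) (n + 1)) _)
    exact ⟨g, hg⟩

/-- The canonical map `Hom(Z[0], C[n]) → Hom(Z, H^n C)`. -/
def hm (n : ℤ) (Z : B) (C : DerivedCategory B) :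
    ((singleFunctor B 0).obj Z ⟶ C⟦n⟧) →+ Ext.{w} Z ((homologyFunctor B n).obj C) 0 :=
  have i1 : ((t.truncLE n).obj C).IsLE n := (inferInstance : t.IsLE ((t.truncLE n).obj C) n)
  AddMonoidHom.comp
    { toFun := fun x => x.comp (Ext.mk₀ ((homologyFunctor B n).map ((t.truncLEι n).app C))) (add_zero 0)
      map_zero' := Ext.zero_comp _ _ _ _ _
      map_add' := fun x y => Ext.add_comp _ _ _ _ }
    ((ExtTrunc.hi.{w} n n 0 (by simp) Z ((t.truncLE n).obj C)).comp
      (AddEquiv.ofBijective _ (tc_bijective n Z C)).symm.toAddMonoidHom)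

theorem hm_tc (n : ℤ) (Z : B) (C : DerivedCategory B) [i1 : ((t.truncLE n).obj C).IsLE n]
    (f : (singleFunctor B 0).obj Z ⟶ ((t.truncLE n).obj C)⟦n⟧) :
    hm.{w} n Z C (tc n Z C f) = (ExtTrunc.hi.{w} n n 0 (by simp) Z ((t.truncLE n).obj C) f).comp
      (Ext.mk₀ ((homologyFunctor B n).map ((t.truncLEι n).app C))) (add_zero 0) := by
  have h1 : (AddEquiv.ofBijective _ (tc_bijective n Z C)).symm (tc n Z C f) = f :=
    (AddEquiv.ofBijective _ (tc_bijective n Z C)).symm_apply_apply f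
  change ((ExtTrunc.hi.{w} n n 0 (by simp) Z ((t.truncLE n).obj C)
    ((AddEquiv.ofBijective _ (tc_bijective n Z C)).symm (tc n Z C f))).comp _ (add_zero 0)) = _
  rw [h1]

theorem hm_precomp (n : ℤ) {Z Z' : B} (p : Z' ⟶ Z) (C : DerivedCategory B)
    (f : (singleFunctor B 0).obj Z ⟶ C⟦n⟧) :
    hm.{w} n Z' C ((singleFunctor B 0).map p ≫ f) = (Ext.mk₀ p).comp (hm.{w} n Z C f) (zero_add 0) := by
  have i1 : ((t.truncLE n).obj C).IsLE n := (inferInstance : t.IsLE ((t.truncLE n).obj C) n)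
  obtain ⟨g, rfl⟩ := (tc_bijective n Z C).2 f
  have h1 : (singleFunctor B 0).map p ≫ tc n Z C g = tc n Z' C ((singleFunctor B 0).map p ≫ g) := by
    rw [tc_apply, tc_apply, Category.assoc]
  rw [h1, hm_tc, hm_tc, ExtTrunc.hi_precomp, Ext.comp_assoc_of_third_deg_zero]

theorem hm_bijective (a n : ℤ) (Z : B) (C : DerivedCategory B) [hC : C.IsGE a]
    (h : ∀ (q : ℤ) (j : ℕ), q < n → 1 ≤ j → Subsingleton (Ext.{w} Z ((homologyFunctor B q).obj C) j)) :
    Function.Bijective (hm.{w} n Z C) := by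
  have i1 : ((t.truncLE n).obj C).IsLE n := (inferInstance : t.IsLE ((t.truncLE n).obj C) n)
  have i2 : ((t.truncLE n).obj C).IsGE a := by
    have : t.IsGE C a := hC
    exact (inferInstance : t.IsGE ((t.truncLE n).obj C) a)
  have hb := ExtTrunc.hi_bijective.{w} a n n 0 (by simp) Z ((t.truncLE n).obj C) (fun q j _ hq hj => by
    have h3 := DTrunc.isIso_homology_truncLE n q hq.le C
    exact subsingleton_ext_iso (asIso ((homologyFunctor B q).map ((t.truncLEι n).app C))).symm j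
      (h q j hq (by lia)))
  have h5 := DTrunc.isIso_homology_truncLE n n le_rfl C
  let e3 : Ext.{w} Z ((homologyFunctor B n).obj ((t.truncLE n).obj C)) 0 ≃
      Ext.{w} Z ((homologyFunctor B n).obj C) 0 :=
    { toFun := fun x => x.comp (Ext.mk₀ ((homologyFunctor B n).map ((t.truncLEι n).app C))) (add_zero 0)
      invFun := fun x => x.comp (Ext.mk₀ (inv ((homologyFunctor B n).map ((t.truncLEι n).app C)))) (add_zero 0)
      left_inv := fun x => by
        beta_reduce
        rw [Ext.comp_assoc_of_third_deg_zero, Ext.mk₀_comp_mk₀, IsIso.hom_inv_id, Ext.comp_mk₀_id]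
      right_inv := fun x => by
        beta_reduce
        rw [Ext.comp_assoc_of_third_deg_zero, Ext.mk₀_comp_mk₀, IsIso.inv_hom_id, Ext.comp_mk₀_id] }
  exact e3.bijective.comp (hb.comp (AddEquiv.ofBijective _ (tc_bijective n Z C)).symm.bijective)

end

section Shift

variable {B : Type u} [Category.{v} B] [Abelian B] {A : Type u'} [Category.{v'} A] [Abelian A]
  [HasDerivedCategory.{w₁} B] [HasDerivedCategory.{w₂} A] [HasExt.{w} B] [HasExt.{w'} A]
  {L : B ⥤ A} [L.Additive] [PreservesFiniteLimits L] [PreservesFiniteColimits L]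
  {R : DerivedCategory A ⥤ DerivedCategory B} [R.Additive]
  (adjD : L.mapDerivedCategory ⊣ R)

theorem eqv_precomp [R.CommShift ℤ] [adjD.CommShift ℤ] {Z Z' : B} (p : Z' ⟶ Z) (Y : B) (m : ℕ)
    (f : (singleFunctor B 0).obj Z ⟶
      (R.obj (L.mapDerivedCategory.obj ((singleFunctor B 0).obj Y)))⟦(m : ℤ)⟧) :
    eqv adjD Z' Y m ((singleFunctor B 0).map p ≫ f) =
      (Ext.mk₀ (L.map p)).comp (eqv adjD Z Y m f) (zero_add m) := by
  apply Ext.ext
  have h1 : (L.mapDerivedCategorySingleFunctor 0).inv.app Z' ≫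
      L.mapDerivedCategory.map ((singleFunctor B 0).map p) =
      (singleFunctor A 0).map (L.map p) ≫ (L.mapDerivedCategorySingleFunctor 0).inv.app Z :=
    ((L.mapDerivedCategorySingleFunctor 0).inv.naturality p).symm
  rw [← Ext.singleFunctor_map_comp_hom, eqv_hom, eqv_hom, Category.assoc,
    Adjunction.homEquiv_naturality_left_symm, Category.assoc, reassoc_of% h1]

theorem exists_eqvNat (Y : B) : ∃ E : ∀ (Z : B) (m : ℕ), ((singleFunctor B 0).obj Z ⟶
      (R.obj (L.mapDerivedCategory.obj ((singleFunctor B 0).obj Y)))⟦(m : ℤ)⟧) ≃+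
      Ext.{w'} (L.obj Z) (L.obj Y) m,
    (∀ (Z : B) (m : ℕ) (x : Ext.{w} Z Y m),
      E Z m (post ((singleFunctor B 0).obj Z) (adjD.unit.app ((singleFunctor B 0).obj Y)) m x.hom) =
        x.mapExactFunctor L) ∧
    ∀ {Z Z' : B} (p : Z' ⟶ Z) (m : ℕ) (f : (singleFunctor B 0).obj Z ⟶
      (R.obj (L.mapDerivedCategory.obj ((singleFunctor B 0).obj Y)))⟦(m : ℤ)⟧),
      E Z' m ((singleFunctor B 0).map p ≫ f) = (Ext.mk₀ (L.map p)).comp (E Z m f) (zero_add m) := by
  let := adjD.rightAdjointCommShift ℤ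
  have := adjD.commShift_of_leftAdjoint ℤ
  exact ⟨fun Z m => eqv adjD Z Y m, fun Z m x => eqv_post adjD Z Y m x, fun p m f => eqv_precomp adjD p Y m f⟩

end Shift

section LES

variable {B : Type u} [Category.{v} B] [Abelian B] [HasDerivedCategory.{w'} B] [HasExt.{w} B]
variable {Y T C : DerivedCategory B} (u : Y ⟶ T) (g : T ⟶ C)
  (h : C ⟶ Y⟦(1 : ℤ)⟧) (hT : Triangle.mk u g h ∈ distTriang (DerivedCategory B))
variable [hC : C.IsGE (-1)] (n : ℕ) (Z : B)
  (hv : ∀ (q : ℤ) (j : ℕ), 1 ≤ j → Subsingleton (Ext.{w} Z ((homologyFunctor B q).obj C) j))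

include hT hC hv in
/-- The long exact sequence around degrees `n`, `n + 1`, with the canonical map. -/
theorem exists_maps : ∃
    (ψ : Ext.{w} Z ((homologyFunctor B (n : ℤ)).obj C) 0 →+ ((singleFunctor B 0).obj Z ⟶ Y⟦(n : ℤ) + 1⟧)),
    ((hm.{w} n Z C).comp (post _ g n)).ker = (post ((singleFunctor B 0).obj Z) u n).range ∧
    ψ.ker = ((hm.{w} n Z C).comp (post _ g n)).range ∧
      (post ((singleFunctor B 0).obj Z) u (n + 1)).ker = ψ.range := by
  let e := AddEquiv.ofBijective _ (hm_bijective.{w} (-1) n Z C (fun q j _ hj => hv q j hj))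
  refine ⟨(conn _ h n).comp e.symm.toAddMonoidHom, ?_, ?_, ?_⟩
  · ext x
    simp only [AddMonoidHom.mem_ker, AddMonoidHom.mem_range, AddMonoidHom.comp_apply]
    constructor
    · intro hx
      exact exists_post₂ u g h hT _ _ x ((AddEquiv.map_eq_zero_iff e).1 hx)
    · rintro ⟨y, rfl⟩
      rw [post_zero_of_comp _ u g (comp_distTriang_mor_zero₁₂ _ hT), map_zero]
  · ext x
    simp only [AddMonoidHom.mem_ker, AddMonoidHom.mem_range, AddMonoidHom.comp_apply]
    constructor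
    · intro hx
      obtain ⟨y, hy⟩ := exists_post₃ u g h hT _ _ _ hx
      exact ⟨y, (congrArg e hy).trans (e.apply_symm_apply x)⟩
    · rintro ⟨y, rfl⟩
      refine (congrArg (conn _ h n) (e.symm_apply_apply _)).trans ?_
      exact conn_post u g h hT _ _ _
  · ext x
    simp only [AddMonoidHom.mem_ker, AddMonoidHom.mem_range, AddMonoidHom.comp_apply]
    constructor
    · intro hx
      obtain ⟨y, hy⟩ := exists_conn u g h hT _ _ x hx
      exact ⟨e y, (congrArg (conn _ h n) (e.symm_apply_apply _)).trans hy⟩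
    · rintro ⟨y, rfl⟩
      exact post_conn u g h hT _ _ _

end LES

section Main

open Groth.Agent.Etrest.RDer3 Groth.Agent.Etrest.RDer4

variable {B : Type u} [Category.{v} B] [Abelian B] {A : Type u'} [Category.{v'} A] [Abelian A]
  [HasExt.{w} B] [HasExt.{w'} A] [HasKInj A] [EnoughInjectives A] [HasInjectiveResolutions A]
  {L : B ⥤ A} [L.Additive] [PreservesFiniteLimits L] [PreservesFiniteColimits L]
  {G : A ⥤ B} [G.Additive] [PreservesFiniteLimits G] (adj : L ⊣ G)

/-- The long exact sequence when all rows are acyclic; the map to the rows is natural in `Z`. -/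
theorem multi (Y : B) :
    ∃ (V : ℕ → B) (_ : Nonempty (V 0 ≅ cokernel (adj.unit.app Y)))
      (_ : ∀ n, 1 ≤ n → Nonempty (V n ≅ (G.rightDerived n).obj (L.obj Y)))
      (φ : ∀ (Z : B) (n : ℕ), Ext.{w'} (L.obj Z) (L.obj Y) n →+ Ext.{w} Z (V n) 0),
      (∀ {Z Z' : B} (p : Z' ⟶ Z) (n : ℕ) (a : Ext.{w'} (L.obj Z) (L.obj Y) n),
        φ Z' n ((Ext.mk₀ (L.map p)).comp a (zero_add n)) = (Ext.mk₀ p).comp (φ Z n a) (zero_add 0)) ∧
      ∀ (Z : B), (∀ j : ℕ, 1 ≤ j → Subsingleton (Ext.{w} Z (kernel (adj.unit.app Y)) j)) →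
        (∀ j : ℕ, 1 ≤ j → Subsingleton (Ext.{w} Z (cokernel (adj.unit.app Y)) j)) →
        (∀ q : ℕ, 1 ≤ q → ∀ j : ℕ, 1 ≤ j → Subsingleton (Ext.{w} Z ((G.rightDerived q).obj (L.obj Y)) j)) →
      ∃ (ψ : ∀ n : ℕ, Ext.{w} Z (V n) 0 →+ Ext.{w} Z Y (n + 1)),
      (∀ n : ℕ, (φ Z n).ker = (L.mapExtAddHom Z Y n : Ext.{w} Z Y n →+ Ext.{w'} _ _ n).range) ∧
      (∀ n : ℕ, (ψ n).ker = (φ Z n).range) ∧
      (∀ n : ℕ, (L.mapExtAddHom Z Y (n + 1) : Ext.{w} Z Y (n + 1) →+ Ext.{w'} _ _ (n + 1)).ker = (ψ n).range) := by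
  let := HasDerivedCategory.standard B
  let := HasDerivedCategory.standard A
  have hTG := isGE_T (L := L) (G := G) Y
  let u : (singleFunctor B 0).obj Y ⟶ (TR G).obj (L.mapDerivedCategory.obj ((singleFunctor B 0).obj Y)) :=
    (dAdj adj).unit.app ((singleFunctor B 0).obj Y)
  obtain ⟨C, g, h, hT⟩ := distinguished_cocone_triangle u
  let e := arrowIsoSingle adj Y
  let e' : Arrow.mk ((homologyFunctor B 0).map u) ≅ Arrow.mk (adj.unit.app Y) := e
  let ek : kernel ((homologyFunctor B 0).map u) ≅ kernel (adj.unit.app Y) :=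
    kernel.mapIso _ _ (Arrow.leftFunc.mapIso e') (Arrow.rightFunc.mapIso e') e'.hom.w.symm
  let ec : cokernel ((homologyFunctor B 0).map u) ≅ cokernel (adj.unit.app Y) :=
    cokernel.mapIso _ _ (Arrow.leftFunc.mapIso e') (Arrow.rightFunc.mapIso e') e'.hom.w.symm
  have hC := isGE_cone u g h hT
  obtain ⟨E, hE, hEn⟩ := exists_eqvNat.{_, _, w, w'} (dAdj adj) Y
  have hmap : ∀ (Z : B) (m : ℕ) (x : Ext.{w} Z Y m),
      (L.mapExtAddHom Z Y m : Ext.{w} Z Y m →+ Ext.{w'} _ _ m) x =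
      E Z m (post ((singleFunctor B 0).obj Z) u m (Ext.homAddEquiv x)) := fun Z m x => (hE Z m x).symm
  have hEs : ∀ {Z Z' : B} (p : Z' ⟶ Z) (m : ℕ) (a : Ext.{w'} (L.obj Z) (L.obj Y) m),
      (E Z' m).symm ((Ext.mk₀ (L.map p)).comp a (zero_add m)) = (singleFunctor B 0).map p ≫ (E Z m).symm a := by
    intro Z Z' p m a
    rw [AddEquiv.symm_apply_eq, hEn, AddEquiv.apply_symm_apply]
  refine ⟨fun n => (homologyFunctor B (n : ℤ)).obj C, ?_, ?_,
    fun Z n => ((hm.{w} n Z C).comp (post _ g n)).comp (E Z n).symm.toAddMonoidHom, ?_, ?_⟩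
  · obtain ⟨e1⟩ := nonempty_iso_H_cone_zero u g h hT
    exact ⟨e1.symm ≪≫ ec⟩
  · intro n hn
    have := isIso_H_cone u g h hT n (by lia) (by lia)
    exact ⟨(asIso ((homologyFunctor B (n : ℤ)).map g)).symm ≪≫ homologyIso (L := L) (G := G) Y n⟩
  · intro Z Z' p n a
    change hm.{w} n Z' C (post _ g n ((E Z' n).symm _)) = (Ext.mk₀ p).comp
      (hm.{w} n Z C (post _ g n ((E Z n).symm a))) (zero_add 0)
    rw [hEs, ← hm_precomp, post_apply, post_apply, Category.assoc]
  · intro Z hK h0 h1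
    have hv := ConeMulti.ext_cone.{w} u g h hT Z (fun j hj => subsingleton_ext_iso ek.symm j (hK j hj))
      (fun j hj => subsingleton_ext_iso ec.symm j (h0 j hj))
      (fun q hq j hj => subsingleton_ext_iso (homologyIso (L := L) (G := G) Y q).symm j (h1 q hq j hj))
    choose ψ h2 h3 h4 using fun n : ℕ => exists_maps.{w} u g h hT n Z hv
    refine ⟨fun n => (Ext.homAddEquiv (X := Z) (Y := Y) (n := n + 1)).symm.toAddMonoidHom.comp (ψ n),
      ?_, ?_, ?_⟩
    · intro n
      ext x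
      have h5 := SetLike.ext_iff.1 (h2 n) ((E Z n).symm x)
      simp only [AddMonoidHom.mem_ker, AddMonoidHom.mem_range] at h5 ⊢
      refine h5.trans ⟨?_, ?_⟩
      · rintro ⟨y, hy⟩
        refine ⟨Ext.homAddEquiv.symm y, ?_⟩
        rw [hmap, AddEquiv.apply_symm_apply, hy, AddEquiv.apply_symm_apply]
      · rintro ⟨y, hy⟩
        refine ⟨Ext.homAddEquiv y, ?_⟩
        rw [← hy, hmap, AddEquiv.symm_apply_apply]
    · intro n
      ext x
      have h5 := SetLike.ext_iff.1 (h3 n) x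
      simp only [AddMonoidHom.mem_ker, AddMonoidHom.mem_range, AddMonoidHom.comp_apply] at h5 ⊢
      refine Iff.trans ?_ (h5.trans ⟨?_, ?_⟩)
      · exact AddEquiv.map_eq_zero_iff _
      · rintro ⟨y, hy⟩
        refine ⟨E Z n y, ?_⟩
        exact (congrArg (fun z => hm.{w} n Z C (post _ g n z)) ((E Z n).symm_apply_apply y)).trans hy
      · rintro ⟨y, hy⟩
        exact ⟨_, hy⟩
    · intro n
      ext x
      have h5 := SetLike.ext_iff.1 (h4 n) (Ext.homAddEquiv x)
      simp only [AddMonoidHom.mem_ker, AddMonoidHom.mem_range, AddMonoidHom.comp_apply] at h5 ⊢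
      refine Iff.trans ?_ (h5.trans ⟨?_, ?_⟩)
      · rw [hmap]
        exact AddEquiv.map_eq_zero_iff _
      · rintro ⟨y, hy⟩
        exact ⟨y, (congrArg Ext.homAddEquiv.symm hy).trans (AddEquiv.symm_apply_apply _ _)⟩
      · rintro ⟨y, hy⟩
        exact ⟨y, (AddEquiv.apply_symm_apply Ext.homAddEquiv _).symm.trans (congrArg Ext.homAddEquiv hy)⟩

end Main

end Groth.Agent.Vancyc.H679.ConeNat
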