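import Groth.Agent.Vancyc.H679.PropMulti
import Groth.Agent.Etcore.LocMap
import Groth.Agent.Etbase.StalkPull

/-!
# Sections, germs and cohomology classes: auxiliary statements

* `isGen_un`: the pull-back of a corepresenting section is corepresenting;
* `mk₀_pull_toConst`: a class on `X` which dies on `X ×_Y V` is killed by `g^* ℤ_V ⟶ g^* ℤ`;
* `stalk_map_eq_zero`: a morphism `ℤ ⟶ G` which vanishes on an étale neighbourhood has zero stalk;
* `eq_zero_of_stalks`.
-/

set_option autoImplicit false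
set_option linter.auxLemma false
universe u
open CategoryTheory CategoryTheory.Limits CategoryTheory.Abelian AlgebraicGeometry Opposite

noncomputable section
namespace Groth.Agent.Vancyc.H679.GermSec

open Groth.Agent Groth.Agent.Etcore Groth.Agent.Etcore.ZU Groth.Agent.Etcore.LocSec
  Groth.Agent.Etcore.Loc Groth.Agent.Etcore.LocMap

section Gen

open scoped Groth.Agent.Etcore.FastInst

variable {X Y : Scheme.{u}} (g : X ⟶ Y)

theorem isGen_un {P : EtCoh.Ab Y} {V : Y.Etale} {p : EtCoh.sect P V} (hp : IsGen p) :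
    IsGen (un g P V p) := by
  intro F
  let e1 : ((EtCoh.pull g).obj P ⟶ F) ≃ (P ⟶ (EtCoh.push g).obj F) := (EtCoh.pullPushAdj g).homEquiv _ _
  have : (fun φ : (EtCoh.pull g).obj P ⟶ F => φ.hom.app (op ((EtCoh.bc g).obj V)) (un g P V p)) =
      (fun ψ : P ⟶ (EtCoh.push g).obj F => ψ.hom.app (op V) p) ∘ e1 := by
    ext φ
    have h := (EtCoh.pullPushAdj g).homEquiv_unit (X := P) (Y := F) (f := φ)
    change _ = ((EtCoh.pullPushAdj g).homEquiv _ _ φ).hom.app (op V) p
    rw [h]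
    rfl
  rw [this]
  exact (hp _).comp e1.bijective

/-- The morphism `g^* ℤ_V ⟶ ℤ_{X ×_Y V}`. -/
def toZE (V : Y.Etale) : (EtCoh.pull g).obj (ZE V) ⟶ ZE ((EtCoh.bc g).obj V) :=
  ofSec (isGen_un g (isGen_genE V)) (genE ((EtCoh.bc g).obj V))

theorem toZE_toConst (V : Y.Etale) :
    toZE g V ≫ toConst ((EtCoh.bc g).obj V) =
      (EtCoh.pull g).map (toConst V) ≫ (EtCore.pullConst g ℤ).hom := by
  apply hext (isGen_un g (isGen_genE V))
  rw [app_comp, app_comp, toZE, app_ofSec, app_toConst, ← un_nat, app_toConst, un_res]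
  have h1 := pullConst_one g
  rw [secPull_apply] at h1
  have h2 : un g (EtCoh.const Y ℤ) (EtCoh.top Y) (one Y) =
      res ((EtCoh.pull g).obj (EtCoh.const Y ℤ)) (EtCore.bcTopIso g).hom
        (app (EtCore.pullConst g ℤ).inv (EtCoh.top X) (one X)) := by
    rw [h1, res_res, Iso.hom_inv_id, res_id]
  rw [h2, res_res, ← res_app, ← app_comp, Iso.inv_hom_id, app_id]
  exact congrArg (fun k => res (EtCoh.const X ℤ) k (one X)) ((EtCore.topIsTerminal X).hom_ext _ _)

/-- A class on `X` which dies on `X ×_Y V` is killed by `g^* ℤ_V ⟶ g^* ℤ ≅ ℤ`. -/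
theorem mk₀_pull_toConst (G : EtCoh.Ab X) (n : ℕ) (x : Ext (EtCoh.const X ℤ) G n) (V : Y.Etale)
    (hx : HP ((EtCoh.bc g).obj V).hom G n x = 0) :
    (Ext.mk₀ ((EtCoh.pull g).map (toConst V) ≫ (EtCore.pullConst g ℤ).hom)).comp x (zero_add n) = 0 := by
  rw [HP_eq_locMap] at hx
  have h1 : (Ext.mk₀ (toConst ((EtCoh.bc g).obj V))).comp x (zero_add n) = 0 :=
    (locMap_bijective _ G n).injective (hx.trans (map_zero _).symm)
  rw [← toZE_toConst, ← Ext.mk₀_comp_mk₀_assoc, h1, Ext.comp_zero]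

end Gen

section Stalk

open Groth.Agent.CurvesA.SkyPoint Groth.Agent.CurvesA.SkyAcyclic Groth.Agent.EtpbcA.Artin

variable {X : Scheme.{u}}

theorem fiber_top_eq {Ω : Type u} [Field Ω] [IsSepClosed Ω] (ξ : Spec (CommRingCat.of Ω) ⟶ X)
    (x : (Scheme.pointSmallEtale ξ).fiber.obj (EtCoh.top X)) : x = PunctPi.topPt ξ := by
  apply StalkSec.ext_hom
  have h := StalkSec.hom_comp ξ x
  exact (Category.comp_id _).symm.trans h

/-- A morphism `ℤ ⟶ G` which vanishes on an étale neighbourhood has zero stalk. -/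
theorem stalk_map_eq_zero {Ω : Type u} [Field Ω] [IsSepClosed Ω] (ξ : Spec (CommRingCat.of Ω) ⟶ X)
    {G : EtCoh.Ab X} (σ : EtCoh.const X ℤ ⟶ G) (U : X.Etale) (w : U.left) (hw : U.hom w = ξ default)
    (h : toConst U ≫ σ = 0) : (EtCoh.stalk ξ).map σ = 0 := by
  have h0 : res G (toTop U) (app σ (EtCoh.top X) (one X)) = 0 := by
    rw [res_app, ← app_toConst, ← app_comp, h]
    rfl
  have h1 : PunctPi.gtop ξ G (app σ (EtCoh.top X) (one X)) = 0 := by
    rw [PunctPi.gtop_apply, StalkSec.germ_eq_zero_iff]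
    exact ⟨U, toTop U, w, by
      rw [PunctPi.pt_topPt, ← hw]
      have h2 : (toTop U).left ≫ (EtCoh.top X).hom = U.hom := MorphismProperty.Over.w (toTop U)
      exact congrArg (fun k : U.left ⟶ X => k w) ((Category.comp_id _).symm.trans h2), h0⟩
  have h2 : σ ≫ (skyAdj ξ).unit.app G = 0 := by
    apply hext (isGen_one X)
    apply sky_ext
    intro x
    rw [fiber_top_eq ξ x]
    rw [PunctPi.gtop_unit] at h1
    refine h1.trans ?_
    exact (map_zero _).symm
  have h3 : (skyAdj ξ).homEquiv _ _ ((EtCoh.stalk ξ).map σ) = 0 := by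
    rw [Adjunction.homEquiv_unit, Adjunction.unit_naturality, h2]
  have h4 := congrArg ((skyAdj ξ).homEquiv _ _).symm h3
  rw [Equiv.symm_apply_apply] at h4
  rw [h4, Adjunction.homEquiv_counit]
  have : Functor.Additive (EtCoh.stalk ξ) := inferInstance
  rw [Functor.map_zero, zero_comp]

theorem eq_zero_of_stalks {F G : EtCoh.Ab X} (a : F ⟶ G)
    (h : ∀ x : X, ∃ (Ω : Type u) (_ : Field Ω) (_ : IsSepClosed Ω)
      (ξ : Spec (CommRingCat.of Ω) ⟶ X), ξ default = x ∧ (EtCoh.stalk ξ).map a = 0) : a = 0 := by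
  have h1 : Epi (kernel.ι a) := Stalks.epi_of_stalks _ fun x => by
    obtain ⟨Ω, _, _, ξ, hξ, hz⟩ := h x
    refine ⟨Ω, inferInstance, inferInstance, ξ, hξ, ?_⟩
    have h2 : IsIso (kernel.ι ((EtCoh.stalk ξ).map a)) := equalizer.ι_of_eq hz
    have h3 : (EtCoh.stalk ξ).map (kernel.ι a) =
        (PreservesKernel.iso (EtCoh.stalk ξ) a).hom ≫ kernel.ι ((EtCoh.stalk ξ).map a) :=
      (kernelComparison_comp_ι _ _).symm
    have h4 : IsIso ((EtCoh.stalk ξ).map (kernel.ι a)) := by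
      rw [h3]; infer_instance
    intro q
    exact ⟨inv ((EtCoh.stalk ξ).map (kernel.ι a)) q, by
      rw [← ConcreteCategory.comp_apply, IsIso.inv_hom_id, ConcreteCategory.id_apply]⟩
  rw [← cancel_epi (kernel.ι a), kernel.condition, comp_zero]

end Stalk

end Groth.Agent.Vancyc.H679.GermSec
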