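import Groth.Agent.Vancyc.H679.ConeNat
import Groth.Agent.Vancyc.H679.GermSec
import Groth.Agent.Etcore.HpullEq

/-!
# Classes which vanish near the singular points are restrictions of global classes
-/

set_option autoImplicit false
set_option linter.unusedSectionVars false
set_option linter.auxLemma false
universe u
open CategoryTheory CategoryTheory.Limits CategoryTheory.Abelian AlgebraicGeometry Opposite
open Groth.Agent.Etrest

noncomputable section
namespace Groth.Agent.Vancyc.H679.GermK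

open Groth.Agent Groth.Agent.Vancyc.H679.PropLES Groth.Agent.Vancyc.H679.EtLES
open Groth.Agent.Etcore Groth.Agent.Etcore.LocMap Groth.Agent.Etcore.Loc

section Et

attribute [local instance 10000] EtCoh.H._proof_1 EtCoh.Rpush._proof_2
attribute [local instance 10000] Groth.Agent.Sga4B.TwoRowEt.he Groth.Agent.Sga4B.TwoRowEt.hinj
attribute [local instance 10000] Groth.Agent.Sga4B.TwoRowEt.hPullAdd Groth.Agent.Sga4B.TwoRowEt.hPullPFC
attribute [local instance 10000] Groth.Agent.Sga4B.TwoRowEt.hasKInj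

variable {X Y : Scheme.{u}} (g : X ⟶ Y) [PreservesFiniteLimits (EtCoh.pull g)] (F : EtCoh.Ab Y)

theorem etMulti
    (hK : ∀ j : ℕ, 1 ≤ j → Subsingleton (EtCoh.H Y (kernel ((EtCoh.pullPushAdj g).unit.app F)) j))
    (h0 : ∀ j : ℕ, 1 ≤ j → Subsingleton (EtCoh.H Y (cokernel ((EtCoh.pullPushAdj g).unit.app F)) j))
    (h1 : ∀ q : ℕ, 1 ≤ q → ∀ j : ℕ, 1 ≤ j →
      Subsingleton (EtCoh.H Y ((EtCoh.Rpush g q).obj ((EtCoh.pull g).obj F)) j)) :
    ∃ (V : ℕ → EtCoh.Ab Y) (_ : Nonempty (V 0 ≅ cokernel ((EtCoh.pullPushAdj g).unit.app F)))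
      (_ : ∀ n, 1 ≤ n → Nonempty (V n ≅ (EtCoh.Rpush g n).obj ((EtCoh.pull g).obj F)))
      (φ : ∀ n : ℕ, Ext.{u + 1} ((EtCoh.pull g).obj (EtCoh.const Y ℤ)) ((EtCoh.pull g).obj F) n →+
        (EtCoh.const Y ℤ ⟶ V n)),
      (∀ (n : ℕ) (a : Ext.{u + 1} ((EtCoh.pull g).obj (EtCoh.const Y ℤ)) ((EtCoh.pull g).obj F) n)
        (U : Y.Etale), (Ext.mk₀ ((EtCoh.pull g).map (toConst U))).comp a (zero_add n) = 0 →
          toConst U ≫ φ n a = 0) ∧
      (∀ (n : ℕ) (a : Ext.{u + 1} ((EtCoh.pull g).obj (EtCoh.const Y ℤ)) ((EtCoh.pull g).obj F) n),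
        φ n a = 0 → ∃ b : Ext.{u + 1} (EtCoh.const Y ℤ) F n, b.mapExactFunctor (EtCoh.pull g) = a) := by
  have hp := hPushPFL g
  obtain ⟨V, hV0, hV1, φ, hn, hφ⟩ := ConeNat.multi.{u + 1, u + 1} (EtCoh.pullPushAdj g) F
  obtain ⟨ψ, a3, a4, a5⟩ := hφ (EtCoh.const Y ℤ) hK h0 h1
  refine ⟨V, hV0, hV1, fun n => Ext.addEquiv₀.toAddMonoidHom.comp (φ (EtCoh.const Y ℤ) n),
    ?_, ?_⟩
  · intro n a U h3
    have h4 := hn (toConst U) n a
    rw [h3, map_zero] at h4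
    have h5 : φ (EtCoh.const Y ℤ) n a = Ext.mk₀ (Ext.addEquiv₀ (φ (EtCoh.const Y ℤ) n a)) :=
      (Ext.mk₀_addEquiv₀_apply _).symm
    rw [h5, Ext.mk₀_comp_mk₀] at h4
    exact (Ext.mk₀_eq_zero_iff _).1 h4.symm
  · intro n a h
    have h2 : φ (EtCoh.const Y ℤ) n a = 0 := (AddEquiv.map_eq_zero_iff Ext.addEquiv₀).1 h
    exact (SetLike.ext_iff.1 (a3 n) a).1 h2

/-- The class `a` dies under pull-back along `f`. -/
def Dies {X Y : Scheme.{u}} (f : X ⟶ Y) [PreservesFiniteLimits (EtCoh.pull f)] (G : EtCoh.Ab Y) (n : ℕ)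
    (a : EtCoh.H Y G n) : Prop := EtCore.Hpull f G n a = 0

/-- The class `a` is a pull-back along `f`. -/
def Lifts {X Y : Scheme.{u}} (f : X ⟶ Y) [PreservesFiniteLimits (EtCoh.pull f)] (G : EtCoh.Ab Y) (n : ℕ)
    (a : EtCoh.H X ((EtCoh.pull f).obj G) n) : Prop := ∃ b : EtCoh.H Y G n, EtCore.Hpull f G n b = a

theorem lifts (n : ℕ) (a : EtCoh.H X ((EtCoh.pull g).obj F) n)
    (h : ∃ b : Ext.{u + 1} (EtCoh.const Y ℤ) F n,
      b.mapExactFunctor (EtCoh.pull g) = (preC g ((EtCoh.pull g).obj F) n).symm a) :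
    Lifts g F n a := by
  obtain ⟨b, hb⟩ := h
  exact ⟨b, (Hpull_eq g F n b).trans ((congrArg (preC g _ n) hb).trans ((preC g _ n).apply_symm_apply a))⟩

theorem mapExact_eq_zero (n : ℕ) (x : EtCoh.H Y F n) (hx : Dies g F n x) :
    Ext.mapExactFunctor (X := EtCoh.const Y ℤ) (EtCoh.pull g) x = 0 :=
  (AddEquiv.map_eq_zero_iff (preC g _ n)).1 ((Hpull_eq g F n x).symm.trans hx)

/-- A class on `X` which dies on `X ×_Y V` is killed by `g^* ℤ_V ⟶ g^* ℤ`. -/
theorem comp_eq_zero (G : EtCoh.Ab X) (n : ℕ) (x : EtCoh.H X G n) (V : Y.Etale)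
    [PreservesFiniteLimits (EtCoh.pull ((EtCoh.bc g).obj V).hom)]
    (hx : Dies ((EtCoh.bc g).obj V).hom G n x) :
    (Ext.mk₀ ((EtCoh.pull g).map (toConst V))).comp ((preC g G n).symm x) (zero_add n) = 0 := by
  have h1 := mapExact_eq_zero _ G n x hx
  have h2 : Loc.HP ((EtCoh.bc g).obj V).hom G n x = 0 := by
    rw [HP, extPull_apply]
    refine (congrArg (fun y => (Ext.mk₀ (cmap (isGen_one _) ((EtCoh.bc g).obj V).hom
      (EtCore.bcTopIso ((EtCoh.bc g).obj V).hom).inv (one X))).comp y (zero_add n)) h1).trans ?_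
    exact Ext.comp_zero _ _ _ _ _
  refine Eq.trans ?_ (GermSec.mk₀_pull_toConst g G n x V h2)
  exact Ext.mk₀_comp_mk₀_assoc _ _ _

end Et

section Main

variable {T₀ T W : Scheme.{u}} (i : T₀ ⟶ T) [PreservesFiniteLimits (EtCoh.pull i)] (hi : PBCi i)
  (g : W ⟶ T) [PreservesFiniteLimits (EtCoh.pull g)] (F : EtCoh.Ab T)

include hi in
/-- A global section `ℤ ⟶ P` of a torsion sheaf whose stalks on `T₀` vanish is zero. -/
theorem eq_zero_of_stalks (P : EtCoh.Ab T) (hP : EtCoh.IsTorsion P) (σ : EtCoh.const T ℤ ⟶ P)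
    (h : ∀ x : T₀, ∃ (Ω : Type u) (_ : Field Ω) (_ : IsSepClosed Ω)
      (ξ : Spec (CommRingCat.of Ω) ⟶ T₀), ξ default = x ∧
        (EtCoh.stalk ξ).map ((EtCoh.pull i).map σ) = 0) : σ = 0 := by
  have h1 : (EtCoh.pull i).map σ = 0 := GermSec.eq_zero_of_stalks _ h
  have h2 := ((HpullCalc.bijective_hp_zero_iff i P).1 ((HpullCalc.bijective_Hpull_iff i P 0).1 (hi P hP 0)))
  have h3 := ((HpullCalc.bijective_unitSec_iff i P).1 h2).1
  apply hext (isGen_one T)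
  apply h3
  change LocSec.un i P (EtCoh.top T) (LocSec.app σ (EtCoh.top T) (one T)) =
    LocSec.un i P (EtCoh.top T) (LocSec.app 0 (EtCoh.top T) (one T))
  rw [LocSec.un_nat, h1]
  exact (map_zero (LocSec.un i P (EtCoh.top T))).symm

theorem stalk_pull_map_eq_zero {Ω : Type u} [Field Ω] [IsSepClosed Ω]
    (ξ : Spec (CommRingCat.of Ω) ⟶ T₀) {F G : EtCoh.Ab T} (σ : F ⟶ G)
    (h : (EtCoh.stalk (ξ ≫ i)).map σ = 0) : (EtCoh.stalk ξ).map ((EtCoh.pull i).map σ) = 0 := by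
  have h1 := (Etbase.StalkPull.stalkPullIso i ξ).hom.naturality σ
  rw [h, zero_comp] at h1
  exact (cancel_epi ((Etbase.StalkPull.stalkPullIso i ξ).hom.app F)).1 (h1.symm.trans comp_zero.symm)

variable (Sig : Finset T₀) (hc : ∀ x ∈ Sig, IsClosed ({x} : Set T₀)) (hs : ∀ x ∈ Sig, IsSepClosed (T₀.residueField x))
  {N : ℕ} (hN : 0 < N) (hF : EtCoh.KilledBy N F) (h1 : ∀ x : T₀, x ∉ Sig → Good i g F x)

section Core

attribute [local instance 10000] EtCoh.H._proof_1 EtCoh.Rpush._proof_2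
attribute [local instance 10000] Groth.Agent.Sga4B.TwoRowEt.he Groth.Agent.Sga4B.TwoRowEt.hinj
attribute [local instance 10000] Groth.Agent.Sga4B.TwoRowEt.hPullAdd Groth.Agent.Sga4B.TwoRowEt.hPullPFC
attribute [local instance 10000] Groth.Agent.Sga4B.TwoRowEt.hasKInj

include hi hc hs hN hF h1 in
/-- **(K)**, in terms of `Ext`. -/
theorem core (n : ℕ)
    (a : Ext.{u + 1} ((EtCoh.pull g).obj (EtCoh.const T ℤ)) ((EtCoh.pull g).obj F) n)
    (ha : ∀ x ∈ Sig, ∃ (U : T.Etale) (w : U.left), U.hom w = i x ∧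
      (Ext.mk₀ ((EtCoh.pull g).map (toConst U))).comp a (zero_add n) = 0) :
    ∃ b : Ext.{u + 1} (EtCoh.const T ℤ) F n, b.mapExactFunctor (EtCoh.pull g) = a := by
  have hG : EtCoh.KilledBy N ((EtCoh.pull g).obj F) := EtpbcB.NKillEt.killedBy_pull g hF
  have hP : EtCoh.KilledBy N ((EtCoh.push g).obj ((EtCoh.pull g).obj F)) := EtpbcB.NKillEt.killedBy_push g hG
  obtain ⟨V, hV0, hV1, φ, hn, b3⟩ := etMulti g F
    (fun j hj => PropMulti.subsingleton_H_kernel i g F hi Sig hc hs hN hF h1 j hj)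
    (fun j hj => PropMulti.subsingleton_H_cokernel i g F hi Sig hc hs hN hF h1 j hj)
    (fun q hq j hj => PropMulti.subsingleton_H_Rpush i g F hi Sig hc hs hN hF h1 q hq j hj)
  refine b3 n a ?_
  have hVt : EtCoh.IsTorsion (V n) := by
    rcases Nat.eq_zero_or_pos n with rfl | hn
    · obtain ⟨e⟩ := hV0
      exact isTorsion_killed hN (EtpbcA.SubSheaf.killedBy_of_mono e.hom
        (EtpbcA.SubSheaf.killedBy_of_epi (cokernel.π _) hP))
    · obtain ⟨e⟩ := hV1 n hn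
      exact isTorsion_killed hN (EtpbcA.SubSheaf.killedBy_of_mono e.hom (killed_Rpush g hG n))
  refine eq_zero_of_stalks i hi (V n) hVt (φ n a) fun x => ?_
  obtain ⟨Ω, _, _, ξ, hξ⟩ := Etcore.Stalks.exists_geom x
  refine ⟨Ω, inferInstance, inferInstance, ξ, hξ, ?_⟩
  by_cases hx : x ∈ Sig
  · obtain ⟨U, w, hw, hU⟩ := ha x hx
    refine stalk_pull_map_eq_zero i ξ (φ n a) (GermSec.stalk_map_eq_zero (ξ ≫ i) (φ n a) U w ?_ ?_)
    · rw [hw, ← hξ]
      rfl
    · exact hn n a U hU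
  · have h2 := h1 x hx Ω ξ hξ
    have h3 : IsZero ((EtCoh.stalk ξ).obj ((EtCoh.pull i).obj (V n))) := by
      rcases Nat.eq_zero_or_pos n with rfl | hn
      · obtain ⟨e⟩ := hV0
        have h4 := h2.1
        exact (isZero_map_cokernel (EtCoh.pull i ⋙ EtCoh.stalk ξ) ((EtCoh.pullPushAdj g).unit.app F)
          (show Epi (uMap i g F ξ) from inferInstance)).of_iso ((EtCoh.pull i ⋙ EtCoh.stalk ξ).mapIso e)
      · obtain ⟨e⟩ := hV1 n hn
        exact (h2.2 n hn).of_iso ((EtCoh.pull i ⋙ EtCoh.stalk ξ).mapIso e)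
    exact h3.eq_of_tgt _ _

end Core

include hi hc hs hN hF h1 in
/-- **(K)** A class on `W` which dies on `W ×_T U` for étale neighbourhoods `U` of the exceptional points is
the restriction of a class on `T`. -/
theorem mem_range [∀ U : T.Etale, PreservesFiniteLimits (EtCoh.pull ((EtCoh.bc g).obj U).hom)] (n : ℕ)
    (a : EtCoh.H W ((EtCoh.pull g).obj F) n)
    (ha : ∀ x ∈ Sig, ∃ (U : T.Etale) (w : U.left), U.hom w = i x ∧
      Dies ((EtCoh.bc g).obj U).hom ((EtCoh.pull g).obj F) n a) :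
    Lifts g F n a :=
  lifts g F n a (core i hi g F Sig hc hs hN hF h1 n _ fun x hx => by
    obtain ⟨U, w, hw, hU⟩ := ha x hx
    exact ⟨U, w, hw, comp_eq_zero g _ n a U hU⟩)

end Main

end Groth.Agent.Vancyc.H679.GermK
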