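import Groth.Agent.Vancyc.H679.GermK
import Groth.Agent.EtpbcB.StrictLoc
import Groth.Agent.Etcore.LimEt

/-!
# Classes which die on the strict localizations at the singular points are restrictions of global classes
-/

set_option autoImplicit false
set_option linter.unusedSectionVars false
set_option linter.auxLemma false
universe u
open CategoryTheory CategoryTheory.Limits CategoryTheory.Abelian AlgebraicGeometry Opposite

noncomputable section
namespace Groth.Agent.Vancyc.H679.GermStrict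

open Groth.Agent Groth.Agent.Vancyc.H679.PropLES Groth.Agent.Vancyc.H679.GermK
open Groth.Agent.EtpbcB.StrictLoc Groth.Agent.EtpbcB

section Lim

open scoped Groth.Agent.Etcore.EtInst
open Groth.Agent.Etcore.EtInst Groth.Agent.Etcore.HpullCalc

theorem dies_iff {X Y : Scheme.{u}} (f : X ⟶ Y) [PreservesFiniteLimits (EtCoh.pull f)] (G : EtCoh.Ab Y)
    (n : ℕ) (a : EtCoh.H Y G n) : Dies f G n a ↔ hp f G n a = 0 := Iff.rfl

theorem hp_comp_eq_zero_iff {X Y Z : Scheme.{u}} (f : X ⟶ Y) (g : Y ⟶ Z) (gf : X ⟶ Z)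
    (w : f ≫ g = gf) [PreservesFiniteLimits (EtCoh.pull g)] [PreservesFiniteLimits (EtCoh.pull f)]
    [PreservesFiniteLimits (EtCoh.pull gf)] (F : EtCoh.Ab Z) (p : ℕ) (x : HH Z F p) :
    hp f _ p (hp g F p x) = 0 ↔ hp gf F p x = 0 := by
  subst w
  rw [hp_comp]
  constructor
  · intro h
    have h1 := congrArg (HHmap ((EtCore.pullComp f g).inv.app F) p) h
    rw [map_zero, HHmap_apply, HHmap_apply] at h1
    rw [← h1, Ext.comp_assoc_of_third_deg_zero, Ext.mk₀_comp_mk₀, Iso.hom_inv_id_app, Ext.comp_mk₀_id]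
  · intro h
    rw [h, map_zero]

attribute [local instance 10000] Groth.Agent.Sga4B.TwoRowEt.hPullPFL

section Abs

variable {I : Type u} [SmallCategory I] [IsCofiltered I] {D : I ⥤ Scheme.{u}}
  [∀ {i j} (f : i ⟶ j), IsAffineHom (D.map f)] {S : Scheme.{u}}
  (p : ∀ i, S ⟶ D.obj i) (hp' : ∀ {x y : I} (f : x ⟶ y), p x ≫ D.map f = p y)
  (hc : IsLimit (Etcore.LimDeg0.coneOf p hp')) {X : Scheme.{u}} (t : ∀ i, D.obj i ⟶ X)
  (ht : ∀ {x y : I} (f : x ⟶ y), D.map f ≫ t y = t x) {q : S ⟶ X}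
  (hq : ∀ j, p j ≫ t j = q) (G : EtCoh.Ab X)
  [∀ i, CompactSpace (D.obj i)] [∀ i, QuasiSeparatedSpace (D.obj i)]

include hp' hc ht hq in
theorem exists_hp_eq_zero_abs (n : ℕ) (a : HH X G n) (ha : hp q G n a = 0) :
    ∃ k : I, hp (t k) G n a = 0 := by
  obtain ⟨j⟩ := IsCofiltered.nonempty (C := I)
  obtain ⟨k, f, hk⟩ := Etcore.LimEt.exists_hp_eq_zero p hp' hc t ht hq G n j (hp (t j) G n a)
    ((hpVia_hp (p j) (t j) q (hq j) G n a).trans ha)
  exact ⟨k, (hp_comp_eq_zero_iff _ _ _ (ht f) G n a).1 hk⟩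

end Abs

variable {T W : Scheme.{u}} (g : W ⟶ T) {Ω : Type u} [Field Ω] [IsSepClosed Ω]
  (ξ : Spec (CommRingCat.of Ω) ⟶ T) {WP : Scheme.{u}} {p : WP ⟶ W} {gP : WP ⟶ Spec (Osh ξ)}

theorem exists_hp_eq_zero [QuasiCompact g] [QuasiSeparated g] (h : IsPullback p gP g (toBase ξ))
    (G : EtCoh.Ab W) (n : ℕ) (a : HH W G n) (ha : hp p G n a = 0) :
    ∃ k : Idx ξ, hp ((EtCoh.bc g).obj ((D ξ).obj k)).hom G n a = 0 :=
  exists_hp_eq_zero_abs (D := DX ξ g) (S := WP) (X := W)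
    (fun j => legX ξ g h j) (fun f => legX_map ξ g h f) (isLimitConeX ξ g h)
    (fun j => ((EtCoh.bc g).obj ((D ξ).obj j)).hom)
    (fun f => BCCalc.left_hom ((EtCoh.bc g).map ((D ξ).map f))) (q := p)
    (fun j => legX_hom ξ g h j) G n a ha

theorem exists_etale_of_dies [QuasiCompact g] [QuasiSeparated g] (h : IsPullback p gP g (toBase ξ))
    (G : EtCoh.Ab W) (n : ℕ) (a : EtCoh.H W G n) (ha : Dies p G n a) :
    ∃ (U : T.Etale) (w : U.left), U.hom w = ξ default ∧ Dies ((EtCoh.bc g).obj U).hom G n a := by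
  obtain ⟨k, hk⟩ := exists_hp_eq_zero g ξ h G n a ((dies_iff p G n a).1 ha)
  exact ⟨(D ξ).obj k, lft ξ k default, congrArg (fun (l : Spec (CommRingCat.of Ω) ⟶ T) => l default)
    (lft_hom ξ k), (dies_iff _ G n a).2 hk⟩

end Lim

section Main

attribute [local instance 10000] Groth.Agent.Sga4B.TwoRowEt.hPullPFL

variable {T₀ T W : Scheme.{u}} (i : T₀ ⟶ T) (hi : PBCi i)
  (g : W ⟶ T) (F : EtCoh.Ab T)
  (Sig : Finset T₀) (hc : ∀ x ∈ Sig, IsClosed ({x} : Set T₀)) (hs : ∀ x ∈ Sig, IsSepClosed (T₀.residueField x))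
  {N : ℕ} (hN : 0 < N) (hF : EtCoh.KilledBy N F) (h1 : ∀ x : T₀, x ∉ Sig → Good i g F x)

/-- `a` dies on the base change of `g` to the strict localization at some geometric point over `t`. -/
def DiesAt (G : EtCoh.Ab W) (n : ℕ) (a : EtCoh.H W G n) (t : T) : Prop :=
  ∃ (Ω : Type u) (_ : Field Ω) (_ : IsSepClosed Ω) (ξ : Spec (CommRingCat.of Ω) ⟶ T) (WP : Scheme.{u})
    (p : WP ⟶ W) (gP : WP ⟶ Spec (Osh ξ)), ξ default = t ∧ IsPullback p gP g (toBase ξ) ∧ Dies p G n a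

include hi hc hs hN hF h1 in
/-- **(K'')** A class on `W` which dies on `W ×_T Spec O^sh` for the strict localizations at the exceptional
points is the restriction of a class on `T`. -/
theorem lifts_of_diesAt [QuasiCompact g] [QuasiSeparated g] (n : ℕ) (a : EtCoh.H W ((EtCoh.pull g).obj F) n)
    (ha : ∀ x ∈ Sig, DiesAt g ((EtCoh.pull g).obj F) n a (i x)) : Lifts g F n a :=
  mem_range i hi g F Sig hc hs hN hF h1 n a fun x hx => by
    obtain ⟨Ω, _, _, ξ, WP, p, gP, hξ, h, hd⟩ := ha x hx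
    obtain ⟨U, w, hw, hU⟩ := exists_etale_of_dies g ξ h _ n a hd
    exact ⟨U, w, hw.trans hξ, hU⟩

end Main

end Groth.Agent.Vancyc.H679.GermStrict
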