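import Groth.Agent.Vancyc.H679.PropLES
import Groth.Agent.S0101
import Groth.Agent.CurvesA.ClosedPtSep
import Groth.Agent.Etrest.ConstBasic
import Groth.Agent.Vancyc.H678.SmoothW
import Groth.Prelude.Def_VanCyc
import Groth.Prelude.Def_EtRestW
import Groth.Prelude.Def_QuadSing

/-!
# The long exact sequence of vanishing cycles for a proper scheme over a strictly henselian ring:
reduction to the local statements
-/

set_option autoImplicit false
universe u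
open CategoryTheory CategoryTheory.Limits CategoryTheory.Abelian AlgebraicGeometry Opposite

namespace Groth.Agent.Vancyc.H679.GoodSing

open Groth.Agent Groth.Agent.Vancyc.H679.PropLES

theorem killedBy_const (X : Scheme.{u}) (N : ℕ) : EtCoh.KilledBy N (EtCoh.const X (ZMod N)) :=
  Etrest.ConstBasic.killedBy_const X (ZMod N) N (fun m => by
    rw [nsmul_eq_mul, ZMod.natCast_self, zero_mul])

/-- The long exact sequence of vanishing cycles, from the local statements and proper base change. -/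
theorem cosp (R Ω : Type u) [CommRing R] [IsLocalRing R] [IsSepClosed (IsLocalRing.ResidueField R)]
    [Field Ω] [Algebra R Ω] {X : Scheme.{u}} (f : X ⟶ Spec (CommRingCat.of R)) [IsProper f] (n : ℕ)
    [PreservesFiniteLimits (EtCoh.pull (VanCyc.icl R f))] (hi : PBCi (VanCyc.icl R f))
    (Sing : Finset ↥(VanCyc.spFib R f)) (hSc : ∀ x ∈ Sing, IsClosed ({x} : Set ↥(VanCyc.spFib R f)))
    (N : ℕ) (hN : 0 < N) [PreservesFiniteLimits (EtCoh.pull (VanCyc.jA R f Ω))]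
    (h1 : ∀ x : ↥(VanCyc.spFib R f), x ∉ Sing →
      Good (VanCyc.icl R f) (VanCyc.jA R f Ω) (EtCoh.const X (ZMod N)) x)
    (h2 : ∀ x ∈ Sing, PropLES.Sing (VanCyc.icl R f) (VanCyc.jA R f Ω) (EtCoh.const X (ZMod N)) n
      (AddCommGrpCat.of (ULift.{u + 1} (ZMod N))) x) :
    (∀ m : ℕ, m ≠ n + 1 → Function.Injective (EtCore.Hpull (VanCyc.jA R f Ω) (EtCoh.const X (ZMod N)) m)) ∧
    (∀ m : ℕ, m ≠ n → Function.Surjective (EtCore.Hpull (VanCyc.jA R f Ω) (EtCoh.const X (ZMod N)) m)) ∧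
      ∃ (φ : EtCoh.H (VanCyc.fib R f Ω) ((EtCoh.pull (VanCyc.jA R f Ω)).obj (EtCoh.const X (ZMod N))) n →+
          (↥Sing → ZMod N))
        (ψ : (↥Sing → ZMod N) →+ EtCoh.H X (EtCoh.const X (ZMod N)) (n + 1)),
        φ.ker = (EtCore.Hpull (VanCyc.jA R f Ω) (EtCoh.const X (ZMod N)) n).range ∧
          ψ.ker = φ.range ∧
          (EtCore.Hpull (VanCyc.jA R f Ω) (EtCoh.const X (ZMod N)) (n + 1)).ker = ψ.range := by
  have hs : ∀ x ∈ Sing, IsSepClosed ((VanCyc.spFib R f).residueField x) := fun x hx =>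
    CurvesA.ClosedPtSep.isSepClosed_residueField (VanCyc.spStr R f) x (hSc x hx)
  obtain ⟨b1, b2, φ, ψ, b3, b4, b5⟩ := PropLES.main (VanCyc.icl R f) hi Sing hSc hs (VanCyc.jA R f Ω) hN
    (EtCoh.const X (ZMod N)) (killedBy_const X N) n (AddCommGrpCat.of (ULift.{u + 1} (ZMod N))) h1 h2
  let E : (↥Sing → (AddCommGrpCat.of (ULift.{u + 1} (ZMod N)) : Type (u + 1))) ≃+ (↥Sing → ZMod N) :=
    AddEquiv.piCongrRight fun _ => AddEquiv.ulift
  refine ⟨b1, b2, E.toAddMonoidHom.comp φ, ψ.comp E.symm.toAddMonoidHom, ?_, ?_, ?_⟩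
  · ext x
    have h5 := SetLike.ext_iff.1 b3 x
    simp only [AddMonoidHom.mem_ker, AddMonoidHom.mem_range, AddMonoidHom.comp_apply] at h5 ⊢
    exact Iff.trans (AddEquiv.map_eq_zero_iff E) h5
  · ext x
    have h5 := SetLike.ext_iff.1 b4 (E.symm x)
    simp only [AddMonoidHom.mem_ker, AddMonoidHom.mem_range, AddMonoidHom.comp_apply] at h5 ⊢
    refine h5.trans ⟨?_, ?_⟩
    · rintro ⟨y, hy⟩
      exact ⟨y, (congrArg E hy).trans (E.apply_symm_apply x)⟩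
    · rintro ⟨y, hy⟩
      exact ⟨y, (E.symm_apply_apply _).symm.trans (congrArg E.symm hy)⟩
  · ext x
    have h5 := SetLike.ext_iff.1 b5 x
    simp only [AddMonoidHom.mem_ker, AddMonoidHom.mem_range, AddMonoidHom.comp_apply] at h5 ⊢
    refine h5.trans ⟨?_, ?_⟩
    · rintro ⟨y, hy⟩
      exact ⟨E y, (congrArg ψ (E.symm_apply_apply y)).trans hy⟩
    · rintro ⟨y, hy⟩
      exact ⟨_, hy⟩


theorem isLocallyConstant_const (X : Scheme.{u}) (M : Type) [AddCommGroup M] :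
    EtRest.IsLocallyConstant (EtCoh.const X M) :=
  ⟨PUnit, fun _ => EtCoh.top X, fun x => ⟨PUnit.unit, x, rfl⟩, fun _ => ⟨ULift.{u + 1} M, inferInstance,
    ⟨(Etrest.ConstBasic.constOver (EtCoh.top X)).app _⟩⟩⟩

theorem base_closedPoint {Ω : Type u} [Field Ω] {X : Scheme.{u}} (ξ : Spec (CommRingCat.of Ω) ⟶ X) (x : X)
    (h : ξ default = x) : ξ.base (IsLocalRing.closedPoint Ω) = x := by
  rw [← h]
  exact congrArg ξ.base (Subsingleton.elim _ _)

/-- The local input at smooth points (shape of `S3993`). -/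
def InSmooth (R Ω : Type u) [CommRing R] [IsLocalRing R] [Field Ω] [Algebra R Ω] {X : Scheme.{u}}
    (f : X ⟶ Spec (CommRingCat.of R)) (F : EtCoh.Ab X) : Prop :=
  ∀ (U : X.Opens), Smooth (U.ι ≫ f) → ∀ x : ↥(VanCyc.spFib R f), (VanCyc.icl R f).base x ∈ U →
    ∀ (Ω' : Type u) [Field Ω'] [IsSepClosed Ω'] (ξ : Spec (CommRingCat.of Ω') ⟶ VanCyc.spFib R f),
      ξ.base (IsLocalRing.closedPoint Ω') = x →
      IsIso ((EtCoh.stalk ξ).map (VanCyc.psi0Unit R Ω f F)) ∧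
        ∀ q : ℕ, 1 ≤ q → IsZero ((EtCoh.stalk ξ).obj (VanCyc.psi R Ω f q ((EtCoh.pull (VanCyc.jA R f Ω)).obj F)))

/-- The local input at ordinary quadratic points of dimension `n ≥ 1` (shape of `S3994`). -/
def InQuad (R K Ω : Type u) [CommRing R] [IsLocalRing R] [Field K] [Algebra R K] [Field Ω] [Algebra R Ω]
    {X : Scheme.{u}} (f : X ⟶ Spec (CommRingCat.of R)) (n N : ℕ) : Prop :=
  ∀ x : ↥(VanCyc.spFib R f), IsClosed ({x} : Set ↥(VanCyc.spFib R f)) →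
    VanCyc.IsOrdQuadPt (VanCyc.resHom (VanCyc.spStr R f) x) n →
    ∀ (V : X.Opens), (VanCyc.icl R f).base x ∈ V → Smooth (pullback.snd (V.ι ≫ f) (VanCyc.toS R K)) →
    ∀ (Ω' : Type u) [Field Ω'] [IsSepClosed Ω'] (ξ : Spec (CommRingCat.of Ω') ⟶ VanCyc.spFib R f),
      ξ.base (IsLocalRing.closedPoint Ω') = x →
    IsIso ((EtCoh.stalk ξ).map (VanCyc.psi0Unit R Ω f (EtCoh.const X (ZMod N)))) ∧
      (∀ q : ℕ, 1 ≤ q → q ≠ n →
        IsZero ((EtCoh.stalk ξ).obj (VanCyc.psi R Ω f q ((EtCoh.pull (VanCyc.jA R f Ω)).obj (EtCoh.const X (ZMod N)))))) ∧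
      Nonempty ((EtCoh.stalk ξ).obj (VanCyc.psi R Ω f n ((EtCoh.pull (VanCyc.jA R f Ω)).obj (EtCoh.const X (ZMod N)))) ≅
        AddCommGrpCat.of (ULift.{u + 1} (ZMod N)))

/-- The local input at ordinary quadratic points of dimension `0` (shape of `S3995`). -/
def InQuad0 (R K Ω : Type u) [CommRing R] [IsLocalRing R] [Field K] [Algebra R K] [Field Ω] [Algebra R Ω]
    {X : Scheme.{u}} (f : X ⟶ Spec (CommRingCat.of R)) (N : ℕ) : Prop :=
  ∀ x : ↥(VanCyc.spFib R f), IsClosed ({x} : Set ↥(VanCyc.spFib R f)) →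
    VanCyc.IsOrdQuadPt (VanCyc.resHom (VanCyc.spStr R f) x) 0 →
    ∀ (V : X.Opens), (VanCyc.icl R f).base x ∈ V → Smooth (pullback.snd (V.ι ≫ f) (VanCyc.toS R K)) →
    ∀ (Ω' : Type u) [Field Ω'] [IsSepClosed Ω'] (ξ : Spec (CommRingCat.of Ω') ⟶ VanCyc.spFib R f),
      ξ.base (IsLocalRing.closedPoint Ω') = x →
    (∀ q : ℕ, 1 ≤ q →
        IsZero ((EtCoh.stalk ξ).obj (VanCyc.psi R Ω f q ((EtCoh.pull (VanCyc.jA R f Ω)).obj (EtCoh.const X (ZMod N)))))) ∧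
      Nonempty ((EtCoh.stalk ξ).obj (VanCyc.psi0 R Ω f ((EtCoh.pull (VanCyc.jA R f Ω)).obj (EtCoh.const X (ZMod N)))) ≅
        AddCommGrpCat.of (ULift.{u + 1} (ZMod N × ZMod N))) ∧
      Mono ((EtCoh.stalk ξ).map (VanCyc.psi0Unit R Ω f (EtCoh.const X (ZMod N)))) ∧
      Nonempty (cokernel ((EtCoh.stalk ξ).map (VanCyc.psi0Unit R Ω f (EtCoh.const X (ZMod N)))) ≅
        AddCommGrpCat.of (ULift.{u + 1} (ZMod N)))

theorem good_of_inSmooth {R Ω : Type u} [CommRing R] [IsLocalRing R] [Field Ω] [Algebra R Ω] {X : Scheme.{u}}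
    {f : X ⟶ Spec (CommRingCat.of R)} {F : EtCoh.Ab X} (h : InSmooth R Ω f F)
    (U : X.Opens) (hU : Smooth (U.ι ≫ f)) (x : ↥(VanCyc.spFib R f)) (hx : (VanCyc.icl R f).base x ∈ U) :
    Good (VanCyc.icl R f) (VanCyc.jA R f Ω) F x := fun Ω' _ _ ξ hξ =>
  h U hU x hx Ω' ξ (base_closedPoint ξ x hξ)

theorem sing_of_inQuad {R K Ω : Type u} [CommRing R] [IsLocalRing R] [Field K] [Algebra R K] [Field Ω] [Algebra R Ω]
    {X : Scheme.{u}} {f : X ⟶ Spec (CommRingCat.of R)} {n N : ℕ} (hn : 1 ≤ n) (h : InQuad R K Ω f n N)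
    (x : ↥(VanCyc.spFib R f)) (hx : IsClosed ({x} : Set ↥(VanCyc.spFib R f)))
    (hq : VanCyc.IsOrdQuadPt (VanCyc.resHom (VanCyc.spStr R f) x) n)
    (V : X.Opens) (hxV : (VanCyc.icl R f).base x ∈ V)
    (hV : Smooth (pullback.snd (V.ι ≫ f) (VanCyc.toS R K))) :
    PropLES.Sing (VanCyc.icl R f) (VanCyc.jA R f Ω) (EtCoh.const X (ZMod N)) n
      (AddCommGrpCat.of (ULift.{u + 1} (ZMod N))) x := fun Ω' _ _ ξ hξ => by
  obtain ⟨h1, h2, h3⟩ := h x hx hq V hxV hV Ω' ξ (base_closedPoint ξ x hξ)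
  have h1' : IsIso (uMap (VanCyc.icl R f) (VanCyc.jA R f Ω) (EtCoh.const X (ZMod N)) ξ) := h1
  exact ⟨inferInstance, fun _ => inferInstance, h2, fun h0 => absurd h0 (by omega), fun _ => h3⟩

theorem sing_of_inQuad0 {R K Ω : Type u} [CommRing R] [IsLocalRing R] [Field K] [Algebra R K] [Field Ω] [Algebra R Ω]
    {X : Scheme.{u}} {f : X ⟶ Spec (CommRingCat.of R)} {N : ℕ} (h : InQuad0 R K Ω f N)
    (x : ↥(VanCyc.spFib R f)) (hx : IsClosed ({x} : Set ↥(VanCyc.spFib R f)))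
    (hq : VanCyc.IsOrdQuadPt (VanCyc.resHom (VanCyc.spStr R f) x) 0)
    (V : X.Opens) (hxV : (VanCyc.icl R f).base x ∈ V)
    (hV : Smooth (pullback.snd (V.ι ≫ f) (VanCyc.toS R K))) :
    PropLES.Sing (VanCyc.icl R f) (VanCyc.jA R f Ω) (EtCoh.const X (ZMod N)) 0
      (AddCommGrpCat.of (ULift.{u + 1} (ZMod N))) x := fun Ω' _ _ ξ hξ => by
  obtain ⟨h1, -, h3, h4⟩ := h x hx hq V hxV hV Ω' ξ (base_closedPoint ξ x hξ)
  exact ⟨h3, fun h0 => absurd rfl h0, fun q hq _ => h1 q hq, fun _ => h4, fun h0 => absurd rfl h0⟩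

/-- The conclusions of `S3996` and `S3997`, from the local statements and proper base change. -/
theorem picLef (R K Ω : Type u) [CommRing R] [IsNoetherianRing R] [IsLocalRing R]
    [IsSepClosed (IsLocalRing.ResidueField R)] [Field K] [Algebra R K] [Field Ω] [Algebra R Ω]
    {X : Scheme.{u}} (f : X ⟶ Spec (CommRingCat.of R)) [IsProper f] [Flat f] (n : ℕ)
    [PreservesFiniteLimits (EtCoh.pull (VanCyc.icl R f))] (hi : PBCi (VanCyc.icl R f))
    (hη : SmoothOfRelativeDimension n (VanCyc.fibStr R f K))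
    (Sing : Finset ↥(VanCyc.spFib R f)) (hSc : ∀ x ∈ Sing, IsClosed ({x} : Set ↥(VanCyc.spFib R f)))
    (hSq : ∀ x ∈ Sing, VanCyc.IsOrdQuadPt (VanCyc.resHom (VanCyc.spStr R f) x) n)
    (U : (VanCyc.spFib R f).Opens) (hU : ∀ x : ↥(VanCyc.spFib R f), x ∉ Sing → x ∈ U)
    (hUs : SmoothOfRelativeDimension n (U.ι ≫ VanCyc.spStr R f))
    (N : ℕ) (hN : 0 < N) [PreservesFiniteLimits (EtCoh.pull (VanCyc.jA R f Ω))]
    (h1 : InSmooth R Ω f (EtCoh.const X (ZMod N))) (h2 : 1 ≤ n → InQuad R K Ω f n N)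
    (h3 : n = 0 → InQuad0 R K Ω f N) :
    (∀ m : ℕ, m ≠ n + 1 → Function.Injective (EtCore.Hpull (VanCyc.jA R f Ω) (EtCoh.const X (ZMod N)) m)) ∧
    (∀ m : ℕ, m ≠ n → Function.Surjective (EtCore.Hpull (VanCyc.jA R f Ω) (EtCoh.const X (ZMod N)) m)) ∧
      ∃ (φ : EtCoh.H (VanCyc.fib R f Ω) ((EtCoh.pull (VanCyc.jA R f Ω)).obj (EtCoh.const X (ZMod N))) n →+
          (↥Sing → ZMod N))
        (ψ : (↥Sing → ZMod N) →+ EtCoh.H X (EtCoh.const X (ZMod N)) (n + 1)),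
        φ.ker = (EtCore.Hpull (VanCyc.jA R f Ω) (EtCoh.const X (ZMod N)) n).range ∧
          ψ.ker = φ.range ∧
          (EtCore.Hpull (VanCyc.jA R f Ω) (EtCoh.const X (ZMod N)) (n + 1)).ker = ψ.range := by
  obtain ⟨W, hW, hW'⟩ := Vancyc.H678.SmoothW.exists_opens_smooth_of_sing R f n Sing U hU hUs
  have hη' : Smooth (VanCyc.fibStr R f K) := SmoothOfRelativeDimension.smooth n _
  refine cosp R Ω f n hi Sing hSc N hN
    (fun x hx => good_of_inSmooth h1 W hW x (hW' x hx)) (fun x hx => ?_)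
  have hV := Vancyc.H678.SmoothW.smooth_top_generic R K f ⊤ hη'
  rcases Nat.eq_zero_or_pos n with rfl | hn
  · exact sing_of_inQuad0 (h3 rfl) x (hSc x hx) (hSq x hx) ⊤ trivial hV
  · exact sing_of_inQuad hn (h2 hn) x (hSc x hx) (hSq x hx) ⊤ trivial hV

end Groth.Agent.Vancyc.H679.GoodSing
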