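import Groth.Agent.Vancyc.H679.GermStrict
import Groth.Agent.Vancyc.H681.Restr
import Groth.Agent.Etcore.HpullComp
import Groth.Agent.CurvesA.ClosedPtSep

/-!
# Classes on the geometric generic fibre which die on the Milnor fibres at the singular points
-/

set_option autoImplicit false
set_option linter.unusedSectionVars false
universe u
open CategoryTheory CategoryTheory.Limits CategoryTheory.Abelian AlgebraicGeometry Opposite

namespace Groth.Agent.Vancyc.H679.PicLefK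

open Groth.Agent Groth.Agent.Vancyc.H679.PropLES Groth.Agent.Vancyc.H679.GermK
  Groth.Agent.Vancyc.H679.GermStrict Groth.Agent.Vancyc.H681.Restr Groth.Agent.EtpbcB.StrictLoc

section Pull

variable (R Ω : Type u) [CommRing R] [Field Ω] [Algebra R Ω] {X P : Scheme.{u}}
  (f : X ⟶ Spec (CommRingCat.of R)) (t : P ⟶ X)

theorem isPullback_fibX : IsPullback (fibX Ω f t) (VanCyc.jA R (t ≫ f) Ω) (VanCyc.jA R f Ω) t := by
  have h1 : IsPullback (VanCyc.fibStr R f Ω) (VanCyc.jA R f Ω) (VanCyc.toS R Ω) f :=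
    (IsPullback.of_hasPullback f (VanCyc.toS R Ω)).flip
  have h2 : IsPullback (VanCyc.fibStr R (t ≫ f) Ω) (VanCyc.jA R (t ≫ f) Ω) (VanCyc.toS R Ω) (t ≫ f) :=
    (IsPullback.of_hasPullback (t ≫ f) (VanCyc.toS R Ω)).flip
  rw [← fibX_fibStr] at h2
  exact IsPullback.of_right h2 (fibX_jA f t) h1

theorem isAffineHom_jA : IsAffineHom (VanCyc.jA R f Ω) := by
  have : IsAffineHom (VanCyc.toS R Ω) := by
    unfold VanCyc.toS
    infer_instance
  exact MorphismProperty.pullback_fst (P := @IsAffineHom) f (VanCyc.toS R Ω) this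

end Pull

open scoped Groth.Agent.Etcore.EtInst
open Groth.Agent.Etcore.EtInst Groth.Agent.Etcore.HpullCalc

attribute [local instance 10000] Groth.Agent.Sga4B.TwoRowEt.hPullPFL

variable (R Ω : Type u) [CommRing R] [IsLocalRing R] [IsSepClosed (IsLocalRing.ResidueField R)]
  [Field Ω] [Algebra R Ω] {X : Scheme.{u}} (f : X ⟶ Spec (CommRingCat.of R)) [IsProper f]

theorem lifts_iff {X Y : Scheme.{u}} (f : X ⟶ Y) [PreservesFiniteLimits (EtCoh.pull f)] (G : EtCoh.Ab Y)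
    (n : ℕ) (a : EtCoh.H X ((EtCoh.pull f).obj G) n) : Lifts f G n a ↔ ∃ b : HH Y G n, hp f G n b = a := Iff.rfl

theorem dies_of_resM {P : Scheme.{u}} (t : P ⟶ X) (F : EtCoh.Ab X) (n : ℕ) 
    (a : HH (VanCyc.fib R f Ω) ((EtCoh.pull (VanCyc.jA R f Ω)).obj F) n) (ha : resM f t F n a = 0) :
    Dies (fibX Ω f t) ((EtCoh.pull (VanCyc.jA R f Ω)).obj F) n a :=
  (dies_iff _ _ n a).2 ((hpVia_eq_zero_iff _ _ _ _ F n a).1 ha)

/-- `(∀ i, resM f (g i) F n a = 0) → ∃ b, hp (jA R f Ω) F n b = a` with `g i` the strict localizations of `X`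
at the exceptional points of the closed fibre. -/
theorem lifts_of_resM (hi : PBCi (VanCyc.icl R f))
    (Sing : Finset ↥(VanCyc.spFib R f)) (hSc : ∀ x ∈ Sing, IsClosed ({x} : Set ↥(VanCyc.spFib R f)))
    (F : EtCoh.Ab X) {N : ℕ} (hN : 0 < N) (hF : EtCoh.KilledBy N F)
    (h1 : ∀ x : ↥(VanCyc.spFib R f), x ∉ Sing → Good (VanCyc.icl R f) (VanCyc.jA R f Ω) F x)
    (Ω' : ↥Sing → Type u) [∀ x, Field (Ω' x)] [∀ x, IsSepClosed (Ω' x)]
    (ξ : ∀ x : ↥Sing, Spec (CommRingCat.of (Ω' x)) ⟶ VanCyc.spFib R f) (hξ : ∀ x, ξ x default = x.1)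
    (n : ℕ) (a : HH (VanCyc.fib R f Ω) ((EtCoh.pull (VanCyc.jA R f Ω)).obj F) n)
    (ha : ∀ x : ↥Sing, resM f (toBase (ξ x ≫ VanCyc.icl R f)) F n a = 0) :
    Lifts (VanCyc.jA R f Ω) F n a := by
  have i1 := isAffineHom_jA R Ω f
  have hs : ∀ x ∈ Sing, IsSepClosed ((VanCyc.spFib R f).residueField x) := fun x hx =>
    CurvesA.ClosedPtSep.isSepClosed_residueField (VanCyc.spStr R f) x (hSc x hx)
  refine lifts_of_diesAt (VanCyc.icl R f) hi (VanCyc.jA R f Ω) F Sing hSc hs hN hF h1 n a fun x hx => ?_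
  refine ⟨Ω' ⟨x, hx⟩, inferInstance, inferInstance, ξ ⟨x, hx⟩ ≫ VanCyc.icl R f,
    VanCyc.fib R (toBase (ξ ⟨x, hx⟩ ≫ VanCyc.icl R f) ≫ f) Ω,
    fibX Ω f (toBase (ξ ⟨x, hx⟩ ≫ VanCyc.icl R f)),
    VanCyc.jA R (toBase (ξ ⟨x, hx⟩ ≫ VanCyc.icl R f) ≫ f) Ω, ?_, isPullback_fibX R Ω f _, ?_⟩
  · exact congrArg (VanCyc.icl R f) (hξ ⟨x, hx⟩)
  · exact dies_of_resM R Ω f _ F n a (ha ⟨x, hx⟩)

theorem exists_hp_eq (hi : PBCi (VanCyc.icl R f))
    (Sing : Finset ↥(VanCyc.spFib R f)) (hSc : ∀ x ∈ Sing, IsClosed ({x} : Set ↥(VanCyc.spFib R f)))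
    (F : EtCoh.Ab X) {N : ℕ} (hN : 0 < N) (hF : EtCoh.KilledBy N F)
    (h1 : ∀ x : ↥(VanCyc.spFib R f), x ∉ Sing → Good (VanCyc.icl R f) (VanCyc.jA R f Ω) F x)
    (Ω' : ↥Sing → Type u) [∀ x, Field (Ω' x)] [∀ x, IsSepClosed (Ω' x)]
    (ξ : ∀ x : ↥Sing, Spec (CommRingCat.of (Ω' x)) ⟶ VanCyc.spFib R f) (hξ : ∀ x, ξ x default = x.1)
    (n : ℕ) (a : HH (VanCyc.fib R f Ω) ((EtCoh.pull (VanCyc.jA R f Ω)).obj F) n)
    (ha : ∀ x : ↥Sing, resM f (toBase (ξ x ≫ VanCyc.icl R f)) F n a = 0) :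
    ∃ b : HH X F n, hp (VanCyc.jA R f Ω) F n b = a :=
  (lifts_iff (VanCyc.jA R f Ω) F n a).1 (lifts_of_resM R Ω f hi Sing hSc F hN hF h1 Ω' ξ hξ n a ha)

end Groth.Agent.Vancyc.H679.PicLefK
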